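import Groth.Agent.CohColim.Topos
import Groth.Agent.ToposFinLib.Generators
import Groth.Agent.SSExist.SiteSheaf
import Groth.Agent.SSExist.CohPre

/-!
# Cohomology of coherent objects and coherent topoi commutes with filtered colimits
-/

set_option autoImplicit false
set_option linter.style.haveILetI false
set_option backward.isDefEq.respectTransparency false
set_option backward.isDefEq.respectTransparency.types false
set_option backward.defeqAttrib.useBackward true

universe u

open CategoryTheory CategoryTheory.Limits CategoryTheory.Abelian Opposite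

namespace Groth.Agent.CohColim

open ToposFin Groth.Agent.ToposFinLib

variable {C : Type u} [SmallCategory C] {J : GrothendieckTopology C}

/-- Coherent objects all whose morphisms from quasi-separated objects are quasi-separated. -/
def Tame (X : Sh J) : Prop := IsCoherent X ∧ ∀ ⦃W : Sh J⦄ (w : W ⟶ X), IsQS W → IsQSHom w

lemma tame_pullback {X Y Z : Sh J} (f : X ⟶ Z) (g : Y ⟶ Z) (hX : Tame X) (hY : Tame Y) (hZ : Tame Z) :
    Tame (pullback f g) := by
  have h1 : IsQSHom (pullback.fst f g) :=
    isQSHom_baseChange (hZ.2 g hY.1.2) (IsPullback.of_hasPullback f g).flip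
  exact ⟨⟨hZ.1.2 _ _ f g hX.1.1 hY.1.1, isQS_of_isQSHom _ h1 hX.1.2⟩,
    fun W w hW => isQSHom_of_comp w (pullback.fst f g) (hX.2 _ hW)⟩

section Gen

variable {S : Set (Sh J)} (hqc : ∀ K ∈ S, IsQC K) (hgen : IsGenerating S) (hpb : ClosedUnderPullbacks S)

include hqc hgen hpb in
lemma tame_of_mem {K : Sh J} (hK : K ∈ S) : Tame K := by
  refine ⟨isCoherent_of_mem hqc hgen hpb hK, fun W w hW => ?_⟩
  obtain ⟨ι, a, π, hπ⟩ := exists_subtype_cover hgen W
  refine isQSHom_of_products (hasQCGenerators_of_set hqc hgen) w π hπ (fun i => hqc _ (a i).2) (fun i j => ?_) hW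
  obtain ⟨P, p, q, hP, sq⟩ := hpb (π i ≫ w) (π j ≫ w) (a i).2 (a j).2 hK
  exact isQS_of_iso sq.isoPullback (isCoherent_of_mem hqc hgen hpb hP).2

include hqc hgen in
lemma tame_sigma {κ : Type u} [Finite κ] (F : κ → Sh J) (h : ∀ i, Tame (F i)) : Tame (∐ F) := by
  refine ⟨isCoherent_sigma F fun i => (h i).1, fun W w hW => ?_⟩
  refine isQSHom_of_local_target (hasQCGenerators_of_set hqc hgen) w _ (isEpiFamily_sigma F) fun i => ?_
  haveI : Mono (Sigma.ι F i) := mono_inj (coproductIsCoproduct F) i
  exact (h i).2 _ (isQS_of_mono (pullback.fst w (Sigma.ι F i)) hW)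

include hqc hgen hpb in
lemma tame_refine {X E : Sh J} (e : E ⟶ X) (hX : Tame X) (he : Epi e) :
    ∃ (X' : Sh J) (k : X' ⟶ E), Tame X' ∧ Epi (k ≫ e) := by
  obtain ⟨ι, a, π, hπ⟩ := exists_subtype_cover hgen E
  have hπe : SGA4.IsEpiFamily fun i => π i ≫ e := fun Z x y hxy =>
    (cancel_epi e).1 (hπ Z _ _ fun i => by simpa using hxy i)
  obtain ⟨t, ht⟩ := exists_finite_subcover hX.1.1 _ hπe
  refine ⟨∐ fun i : t => (a i.1).1, Sigma.desc fun i => π i.1,
    tame_sigma hqc hgen _ fun i => tame_of_mem hqc hgen hpb (a i.1).2, ?_⟩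
  have h : Sigma.desc (fun i : t => π i.1) ≫ e = Sigma.desc fun i : t => π i.1 ≫ e :=
    Sigma.hom_ext _ _ fun i => by simp
  rw [h]
  exact (epi_desc_iff _).2 ht

variable (I : Type u) [SmallCategory I] [IsFiltered I]

include hqc hgen hpb in
/-- Cohomology of a tame object commutes with filtered colimits. -/
theorem preservesColimitsOfShape_HK_of_tame {K : Sh J} (hK : Tame K) (q : ℕ) :
    PreservesColimitsOfShape I (ToposFin.HKFunctor K q) :=
  preservesColimitsOfShape_HK Tame (fun _ h => h.1.1) (fun f g => tame_pullback f g)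
    (fun e => tame_refine hqc hgen hpb e) hK q

end Gen

lemma tame_of_isAlgebraic (hE : IsAlgebraic J) {K : Sh J} (hK : IsCoherent K) : Tame K :=
  ⟨hK, fun _ w hW => isQSHom_of_isQS_source hE w hW⟩

/-- Cohomology of a coherent object of an algebraic topos commutes with filtered colimits. -/
theorem preservesColimitsOfShape_HK_of_coherent (hE : IsAlgebraic J) {K : Sh J} (hK : IsCoherent K)
    (I : Type u) [SmallCategory I] [IsFiltered I] (q : ℕ) :
    PreservesColimitsOfShape I (ToposFin.HKFunctor K q) := by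
  have hT := tame_of_isAlgebraic hE hK
  obtain ⟨S, hqc, hgen, hpb, -⟩ := hE
  exact preservesColimitsOfShape_HK_of_tame hqc hgen hpb I hT q

/-- Free abelian groups on one generator. -/
noncomputable def freeUniqueIso (α : Type u) [Unique α] :
    AddCommGrpCat.free.{u}.obj α ≅ AddCommGrpCat.of (ULift.{u} ℤ) :=
  ((FreeAbelianGroup.uniqueEquiv α).trans AddEquiv.ulift.symm).toAddCommGrpIso

/-- The free abelian sheaf on a terminal object is the constant sheaf. -/
noncomputable def freeTerminalIso :
    (ToposFin.freeAb J).obj (⊤_ (Sh J)) ≅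
      (constantSheaf J AddCommGrpCat.{u}).obj (AddCommGrpCat.of (ULift.{u} ℤ)) :=
  haveI hu : ∀ V : Cᵒᵖ, Unique ((⊤_ (Sh J)).obj.obj V) := fun V =>
    Classical.choice ((Types.isTerminalEquivUnique _).nonempty_congr.1
      ⟨IsTerminal.isTerminalObj (sheafToPresheaf J (Type u) ⋙ (evaluation Cᵒᵖ (Type u)).obj V) _ terminalIsTerminal⟩)
  (presheafToSheaf J AddCommGrpCat.{u}).mapIso (NatIso.ofComponents
    (fun V => @freeUniqueIso ((⊤_ (Sh J)).obj.obj V) (hu V))
    fun {V W} g => AddCommGrpCat.hom_ext (FreeAbelianGroup.lift_ext _ _ fun x => by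
      show ((@freeUniqueIso ((⊤_ (Sh J)).obj.obj W) (hu W)).hom
          (FreeAbelianGroup.map ((⊤_ (Sh J)).obj.map g) (FreeAbelianGroup.of x))) =
        (@freeUniqueIso ((⊤_ (Sh J)).obj.obj V) (hu V)).hom (FreeAbelianGroup.of x)
      simp [freeUniqueIso, FreeAbelianGroup.map_of_apply]
      rfl))

/-- Ext functors out of isomorphic objects are isomorphic. -/
noncomputable def extObjIso {A : Type (u + 1)} [Category.{u} A] [Abelian A] [HasExt.{u} A] {Z Z' : A} (e : Z ≅ Z')
    (q : ℕ) : extFunctorObj.{u} Z q ≅ extFunctorObj.{u} Z' q :=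
  (extFunctor.{u} q).mapIso e.symm.op

/-- Cohomology of a coherent topos commutes with filtered colimits. -/
theorem preservesColimitsOfShape_functorH (hE : IsAlgebraic J) (hT : IsCoherent (⊤_ (Sh J)))
    (I : Type u) [SmallCategory I] [IsFiltered I] (q : ℕ) :
    PreservesColimitsOfShape I (Sheaf.functorH J q : Sheaf J AddCommGrpCat.{u} ⥤ AddCommGrpCat.{u}) :=
  haveI := preservesColimitsOfShape_HK_of_coherent hE hT I q
  haveI : PreservesColimitsOfShape I (extFunctorObj.{u} ((ToposFin.freeAb J).obj (⊤_ (Sh J))) q) :=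
    preservesColimitsOfShape_of_natIso (F := ToposFin.HKFunctor (⊤_ (Sh J)) q) (NatIso.ofComponents (fun _ => Iso.refl _) (fun _ => rfl))
  preservesColimitsOfShape_of_natIso (F := extFunctorObj.{u} ((ToposFin.freeAb J).obj (⊤_ (Sh J))) q)
    (extObjIso freeTerminalIso q ≪≫ NatIso.ofComponents (fun _ => Iso.refl _) (fun _ => rfl))

/-- A colimit of zero objects is zero. -/
lemma isZero_of_isColimit {J' : Type*} [Category J'] {A : Type*} [Category A] [HasZeroMorphisms A] {F : J' ⥤ A}
    {c : Cocone F} (hc : IsColimit c) (h : ∀ i, IsZero (F.obj i)) : IsZero c.pt :=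
  (IsZero.iff_id_eq_zero _).2 (hc.hom_ext fun i => (h i).eq_of_src _ _)

section Push

variable {D : Type u} [SmallCategory D] (K : GrothendieckTopology D) (u : D ⥤ C) [u.IsContinuous K J]

/-- The free sheaf on an object of the site. -/
noncomputable def freeEpsIso (X : C) :
    SSExist.freeAb J X ≅ (ToposFin.freeAb J).obj (ToposFin.eps J X) :=
  (SSExist.freeShIso J).app (yoneda.obj X)

variable (J) in
/-- Higher direct images along a coherent morphism commute with filtered colimits. -/
theorem preservesColimitsOfShape_Rpush (hE : IsAlgebraic J) (hu : ∀ V : D, IsCoherent (ToposFin.eps J (u.obj V)))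
    (I : Type u) [SmallCategory I] [IsFiltered I] (q : ℕ) :
    PreservesColimitsOfShape I (CohSite.Rpush J K u q) := by
  have hH : ∀ (V : D) (n : ℕ), PreservesColimitsOfShape I (extFunctorObj.{u} (SSExist.freeAb J (u.obj V)) n) :=
    fun V n => haveI := preservesColimitsOfShape_HK_of_coherent hE (hu V) I n
      preservesColimitsOfShape_of_natIso (F := ToposFin.HKFunctor (ToposFin.eps J (u.obj V)) n)
      (NatIso.ofComponents (fun _ => Iso.refl _) (fun _ => rfl) ≪≫ extObjIso (freeEpsIso (u.obj V)).symm n)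
  have hsec : ∀ V : D, PreservesColimitsOfShape I (SSExist.secAb J (u.obj V)) := fun V =>
    haveI : PreservesColimitsOfShape I (preadditiveCoyoneda.obj (op (SSExist.freeAb J (u.obj V))) :
        Sheaf J AddCommGrpCat.{u} ⥤ AddCommGrpCat.{u}) :=
      haveI := hH V 0
      preservesColimitsOfShape_of_natIso (F := extFunctorObj.{u} (SSExist.freeAb J (u.obj V)) 0)
        (NatIso.ofComponents (fun Y => Ext.addEquiv₀.toAddCommGrpIso) (fun {Y Y'} f => by
          ext x
          obtain ⟨φ, rfl⟩ := (Ext.mk₀_bijective _ _).2 x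
          show Ext.addEquiv₀ ((Ext.mk₀ φ).comp (Ext.mk₀ f) (add_zero 0)) = Ext.addEquiv₀ (Ext.mk₀ φ) ≫ f
          simp only [Ext.mk₀_comp_mk₀]
          exact (Ext.addEquiv₀.apply_symm_apply (φ ≫ f)).trans
            (congrArg (fun z => z ≫ f) (Ext.addEquiv₀.apply_symm_apply φ)).symm))
    preservesColimitsOfShape_of_natIso (SSExist.secAbIso J (u.obj V)).symm
  have h0 : PreservesColimitsOfShape I (CohSite.push J K u) :=
    ⟨fun {F} => preservesColimit_of_preserves_colimit_cocone (colimit.isColimit F) (by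
      refine isColimitOfReflects (sheafToPresheaf K AddCommGrpCat.{u}) (evaluationJointlyReflectsColimits _ fun V => ?_)
      haveI := hsec V.unop
      exact isColimitOfPreserves (SSExist.secAb J (u.obj V.unop)) (colimit.isColimit F))⟩
  haveI : PreservesFiniteLimits (CohSite.push J K u) :=
    ⟨fun L _ _ => ⟨fun {F} => ⟨fun {c} hc => ⟨isLimitOfReflects (sheafToPresheaf K AddCommGrpCat.{u})
      (evaluationJointlyReflectsLimits _ fun V =>
        isLimitOfPreserves (SSExist.secAb J (u.obj V.unop)) hc)⟩⟩⟩⟩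
  refine preservesColimitsOfShape_of_acyclic (TriH.RDer.derivedLES (CohSite.push J K u)).toCohDeltaFunctor
    (preservesColimitsOfShape_of_natIso (CohSite.push J K u).rightDerivedZeroIsoSelf.symm)
    (fun A hA n => haveI := hA; (CohSite.push J K u).isZero_rightDerived_obj_injective_succ n A) ?_ q
  intro F hF n
  show IsZero (((CohSite.push J K u).rightDerived (n + 1)).obj (colimit F))
  obtain ⟨e⟩ := SSExist.nonempty_rightDerived_push_iso J K u (colimit F) (n + 1)
  refine IsZero.of_iso ((presheafToSheaf K AddCommGrpCat.{u}).map_isZero (Functor.isZero _ fun V => ?_)) e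
  haveI := hH V.unop (n + 1)
  exact IsZero.of_iso (isZero_of_isColimit (isColimitOfPreserves
    (extFunctorObj.{u} (SSExist.freeAb J (u.obj V.unop)) (n + 1)) (colimit.isColimit F))
      fun i => haveI := hF i; @AddCommGrpCat.isZero_of_subsingleton _
        (subsingleton_of_forall_eq 0 fun x => Ext.eq_zero_of_injective x)) (Iso.refl _)

end Push

end Groth.Agent.CohColim
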