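import Groth.Agent.CompactPull.Extend
import Groth.Agent.CohVanish.LES
import Mathlib.Topology.Sheaves.Skyscraper
import Mathlib.Topology.Sheaves.LocallySurjective
import Mathlib.Algebra.Group.Subgroup.ZPowers.Basic

/-!
# Cyclic abelian sheaves on a space

A sheaf is cyclic on an open `U` with spans `σ` if it is generated by a section `s` over `U`, vanishes off `U`
and `σ x` is the annihilator of the germ of `s` at `x`.
-/

set_option autoImplicit false
set_option linter.style.haveILetI false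
set_option backward.isDefEq.respectTransparency false
set_option backward.isDefEq.respectTransparency.types false

universe u

open CategoryTheory CategoryTheory.Limits Opposite TopologicalSpace

namespace Groth.Agent.CohColim

open Groth.Agent.CohVanish Groth.Agent.CompactPull
open scoped Groth.Agent.CohVanish

variable {X : TopCat.{u}}

/-- The map on stalks. -/
noncomputable def stMap {F G : AbSh X} (φ : F ⟶ G) (x : X) :
    TopCat.Presheaf.stalk (C := AddCommGrpCat.{u}) F.obj x →+ TopCat.Presheaf.stalk (C := AddCommGrpCat.{u}) G.obj x :=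
  ((TopCat.Presheaf.stalkFunctor AddCommGrpCat.{u} x).map φ.hom).hom

lemma stMap_gm {F G : AbSh X} (φ : F ⟶ G) {U : Opens X} (x : X) (hx : x ∈ U) (s : F.obj.obj (op U)) :
    stMap φ x (gm F U x hx s) = gm G U x hx (φ.hom.app (op U) s) :=
  TopCat.Presheaf.stalkFunctor_map_germ_apply U x hx φ.hom s

lemma surjective_stMap {F G : AbSh X} (φ : F ⟶ G) [Epi φ] (x : X) : Function.Surjective (stMap φ x) :=
  (TopCat.Presheaf.locally_surjective_iff_surjective_on_stalks φ.hom).1
    ((TopCat.Sheaf.isLocallySurjective_iff_epi φ).2 inferInstance) x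

lemma injective_stMap {F G : AbSh X} (φ : F ⟶ G) [Mono φ] (x : X) : Function.Injective (stMap φ x) := by
  haveI : Mono φ.hom := (sheafToPresheaf _ _).map_mono φ
  exact TopCat.Presheaf.stalkFunctor_map_injective_of_app_injective
    (fun U => (AddCommGrpCat.mono_iff_injective _).1 inferInstance) x

lemma exists_stMap_eq {S : ShortComplex (AbSh X)} (hS : S.ShortExact) (x : X)
    (a : TopCat.Presheaf.stalk (C := AddCommGrpCat.{u}) S.X₂.obj x) (ha : stMap S.g x a = 0) :
    ∃ b, stMap S.f x b = a := by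
  obtain ⟨U, hx, s, rfl⟩ := TopCat.Presheaf.exists_germ_eq (F := S.X₂.obj) a
  obtain ⟨W, hxW, i, _, e⟩ := TopCat.Presheaf.germ_eq S.X₃.obj x hx hx (S.g.hom.app (op U) s) 0
    ((stMap_gm S.g x hx s).symm.trans (ha.trans (map_zero _).symm))
  haveI := hS.mono_f
  obtain ⟨t, ht⟩ := TopCat.Sheaf.sections_exact_of_left_exact hS.1 hS.2 (S.X₂.obj.map i.op s)
    ((ConcreteCategory.congr_hom (S.g.hom.naturality i.op) s).trans (e.trans (map_zero _)))
  exact ⟨gm S.X₁ W x hxW t, (stMap_gm S.f x hxW t).trans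
    ((congrArg _ ht).trans (TopCat.Presheaf.germ_res_apply S.X₂.obj i x hxW s))⟩

/-- A sheaf generated by a section over `U`, with annihilators `σ`. -/
structure IsCyc (U : Opens X) (F : AbSh X) (s : F.obj.obj (op U)) (σ : X → AddSubgroup ℤ) : Prop where
  /-- the stalks off `U` vanish -/
  off : ∀ x, x ∉ U → ∀ a : TopCat.Presheaf.stalk (C := AddCommGrpCat.{u}) F.obj x, a = 0
  /-- the germ of `s` generates -/
  gen : ∀ x (hx : x ∈ U) (a : TopCat.Presheaf.stalk (C := AddCommGrpCat.{u}) F.obj x),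
    ∃ n : ℤ, a = n • gm F U x hx s
  /-- the annihilators -/
  ann : ∀ x (hx : x ∈ U) (n : ℤ), n • gm F U x hx s = 0 ↔ n ∈ σ x

lemma IsCyc.congr {U : Opens X} {F : AbSh X} {s : F.obj.obj (op U)} {σ σ' : X → AddSubgroup ℤ}
    (h : IsCyc U F s σ) (hσ : ∀ x ∈ U, σ x = σ' x) : IsCyc U F s σ' :=
  ⟨h.off, h.gen, fun x hx n => hσ x hx ▸ h.ann x hx n⟩

/-- The morphism of a section. -/
noncomputable def ofSection (V : Opens X) (F : AbSh X) (t : F.obj.obj (op V)) : freeSh V ⟶ F :=
  ((sec_bijective V F).2 t).choose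

lemma sec_ofSection (V : Opens X) (F : AbSh X) (t : F.obj.obj (op V)) : sec (ofSection V F t) = t :=
  ((sec_bijective V F).2 t).choose_spec

lemma stMap_ofSection {V : Opens X} {F : AbSh X} (t : F.obj.obj (op V)) (x : X) (hx : x ∈ V) :
    stMap (ofSection V F t) x (gm (freeSh V) V x hx (CohVanish.gen V)) = gm F V x hx t := by
  rw [stMap_gm]
  exact congrArg _ (sec_ofSection V F t)

section Sky

variable (x : X) (I : AddSubgroup ℤ) [∀ U : Opens X, Decidable (x ∈ U)]

/-- The group `ℤ/I`. -/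
abbrev skyGrp : AddCommGrpCat.{u} := AddCommGrpCat.of (ULift.{u} (ℤ ⧸ I))

/-- The skyscraper. -/
noncomputable abbrev skySh : AbSh X := skyscraperSheaf x (skyGrp.{u} I)

lemma sky_sections_zero {W : Opens X} (h : x ∉ W) (a : (skySh x I).obj.obj (op W)) : a = 0 := by
  have ht : IsTerminal ((skySh x I).obj.obj (op W)) := isTerminalSkyscraperSheafObjObjOfNotMem (U := op W) h
  have e := congrArg (fun f : AddCommGrpCat.of (ULift.{u} ℤ) ⟶ (skySh x I).obj.obj (op W) => f (ULift.up 1))
    (ht.hom_ext (AddCommGrpCat.ofHom (((zmultiplesHom _) a).comp AddEquiv.ulift.toAddMonoidHom)) 0)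
  simpa [AddEquiv.ulift] using e

/-- The class of `n`. -/
noncomputable def skyCl {W : Opens X} (h : x ∈ W) : ℤ →+ (skySh x I).obj.obj (op W) :=
  (eqToHom (if_pos h).symm : skyGrp.{u} I ⟶ (skySh x I).obj.obj (op W)).hom.comp
    (AddEquiv.ulift.symm.toAddMonoidHom.comp (QuotientAddGroup.mk' I))

lemma skyCl_res {V W : Opens X} (hVW : V ≤ W) (h : x ∈ V) (n : ℤ) :
    (skySh x I).obj.map (homOfLE hVW).op (skyCl x I (hVW h) n) = skyCl x I h n := by
  have e : (eqToHom (if_pos (hVW h)).symm : skyGrp.{u} I ⟶ (skySh x I).obj.obj (op W)) ≫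
      (skySh x I).obj.map (homOfLE hVW).op = eqToHom (if_pos h).symm := by
    show _ ≫ (skyscraperPresheaf x (skyGrp.{u} I)).map _ = _
    dsimp only [skyscraperPresheaf]
    rw [dif_pos (show x ∈ (op V).unop from h), eqToHom_trans]
  exact ConcreteCategory.congr_hom e _

lemma mem_of_skyCl_eq_zero {W : Opens X} (h : x ∈ W) {n : ℤ} (e : skyCl x I h n = 0) : n ∈ I := by
  have hb : Function.Bijective (eqToHom (if_pos h).symm : skyGrp.{u} I ⟶ (skySh x I).obj.obj (op W)) :=
    ConcreteCategory.bijective_of_isIso _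
  have h1 : AddEquiv.ulift.symm.toAddMonoidHom ((QuotientAddGroup.mk' I) n) = (0 : skyGrp.{u} I) :=
    hb.1 (e.trans (map_zero _).symm)
  exact (QuotientAddGroup.eq_zero_iff n).1 (congrArg ULift.down h1)

lemma skyCl_eq_zero {W : Opens X} (h : x ∈ W) {n : ℤ} (hn : n ∈ I) : skyCl x I h n = 0 := by
  show (eqToHom _ : skyGrp.{u} I ⟶ (skySh x I).obj.obj (op W))
    (AddEquiv.ulift.symm.toAddMonoidHom ((QuotientAddGroup.mk' I) n)) = 0
  rw [show (QuotientAddGroup.mk' I) n = 0 from (QuotientAddGroup.eq_zero_iff n).2 hn, map_zero]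
  exact map_zero _

end Sky

/-- A germ vanishing in the cokernel of the relations lies in their span. -/
lemma mem_of_gm_coker {U : Opens X} {ι : Type u} (W : ι → Opens X) (hW : ∀ a, W a ≤ U) (m : ι → ℤ)
    [HasCoproduct fun a => freeSh (W a)] (x : X) (hx : x ∈ U) (n : ℤ)
    (h : n • gm (cokernel (Sigma.desc fun a => m a • freeMap (homOfLE (hW a)))) U x hx
      ((cokernel.π (Sigma.desc fun a => m a • freeMap (homOfLE (hW a)))).hom.app (op U) (CohVanish.gen U)) = 0)
    (I : AddSubgroup ℤ) (hI : ∀ a, x ∈ W a → m a ∈ I) : n ∈ I := by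
  classical
  letI : ∀ V : Opens X, Decidable (x ∈ V) := fun _ => Classical.dec _
  let φ : freeSh U ⟶ skySh x I := ofSection U _ (skyCl x I hx 1)
  have hφ : Sigma.desc (fun a => m a • freeMap (homOfLE (hW a))) ≫ φ = 0 := by
    refine Sigma.hom_ext _ _ fun a => ?_
    rw [Sigma.ι_desc_assoc, comp_zero, Preadditive.zsmul_comp]
    refine (sec_bijective (W a) (skySh x I)).1 ?_
    rw [map_zero, map_zsmul, sec_freeMap, sec_ofSection]
    by_cases ha : x ∈ W a
    · rw [skyCl_res x I (hW a) ha, ← map_zsmul, smul_eq_mul, mul_one]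
      exact skyCl_eq_zero x I ha (hI a ha)
    · exact sky_sections_zero x I ha _
  let π := cokernel.π (Sigma.desc fun a => m a • freeMap (homOfLE (hW a)))
  let θ := cokernel.desc _ φ hφ
  have h1 := congrArg (stMap θ x) h
  rw [map_zsmul, map_zero, stMap_gm] at h1
  have h2 : θ.hom.app (op U) (π.hom.app (op U) (CohVanish.gen U)) = skyCl x I hx 1 :=
    (congrArg sec (cokernel.π_desc _ φ hφ)).trans (sec_ofSection U _ _)
  rw [h2, ← map_zsmul (TopCat.Presheaf.germ (skySh x I).obj U x hx).hom,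
    ← map_zsmul (skyCl x I hx), smul_eq_mul, mul_one] at h1
  obtain ⟨V, hxV, i, _, e⟩ := TopCat.Presheaf.germ_eq (skySh x I).obj x hx hx _ 0 (h1.trans (map_zero _).symm)
  exact mem_of_skyCl_eq_zero x I hxV ((skyCl_res x I i.le hxV n).symm.trans (e.trans (map_zero _)))

/-- The germ of the canonical section generates the free sheaf. -/
lemma exists_gm_free {U V : Opens X} (x : X) (hxV : x ∈ V) (t : (freeSh U).obj.obj (op V)) :
    (x ∉ U → gm (freeSh U) V x hxV t = 0) ∧
      ∀ hx : x ∈ U, ∃ n : ℤ, gm (freeSh U) V x hxV t = n • gm (freeSh U) U x hx (CohVanish.gen U) := by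
  haveI : CategoryTheory.Presheaf.IsLocallySurjective (Opens.grothendieckTopology X)
      (toSheafify (Opens.grothendieckTopology X) (freePre U)) := inferInstance
  obtain ⟨W, j, ⟨p, hp⟩, hxW⟩ := Presheaf.imageSieve_mem (Opens.grothendieckTopology X)
    (toSheafify (Opens.grothendieckTopology X) (freePre U)) (U := op V) t x hxV
  have hg : gm (freeSh U) V x hxV t =
      gm (freeSh U) W x hxW ((toSheafify (Opens.grothendieckTopology X) (freePre U)).app (op W) p) :=
    (TopCat.Presheaf.germ_res_apply (freeSh U).obj j x hxW t).symm.trans (congrArg _ hp.symm)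
  rw [hg]
  clear hg hp
  refine FreeAbelianGroup.induction_on p ⟨fun _ => ?_, fun _ => ⟨0, ?_⟩⟩ (fun i => ⟨fun h => absurd (i.le hxW) h,
    fun hx => ⟨1, ?_⟩⟩) (fun i hi => ⟨fun h => ?_, fun hx => ?_⟩) (fun a b ha hb => ⟨fun h => ?_, fun hx => ?_⟩)
  · exact (congrArg _ (map_zero _)).trans (map_zero _)
  · exact ((congrArg _ (map_zero _)).trans (map_zero _)).trans (zero_smul ℤ _).symm
  · refine Eq.trans ?_ ((one_smul ℤ _).trans rfl).symm
    refine Eq.trans ?_ (TopCat.Presheaf.germ_res_apply (freeSh U).obj i x hxW (CohVanish.gen U))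
    refine congrArg _ ?_
    refine Eq.trans ?_ (ConcreteCategory.congr_hom ((toSheafify (Opens.grothendieckTopology X) (freePre U)).naturality i.op)
      (FreeAbelianGroup.of (𝟙 U) : FreeAbelianGroup (U ⟶ U)))
    refine congrArg _ ?_
    exact (congrArg FreeAbelianGroup.of (Category.comp_id i).symm).trans
      (FreeAbelianGroup.lift_apply_of (fun g : U ⟶ U => FreeAbelianGroup.of (i ≫ g)) (𝟙 U)).symm
  · exact ((congrArg _ (map_neg _ _)).trans (map_neg _ _)).trans ((congrArg Neg.neg (hi.1 h)).trans neg_zero)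
  · obtain ⟨n, hn⟩ := hi.2 hx
    exact ⟨-n, (((congrArg _ (map_neg _ _)).trans (map_neg _ _)).trans (congrArg Neg.neg hn)).trans (neg_zsmul _ n).symm⟩
  · exact ((congrArg _ (map_add _ _ _)).trans (map_add _ _ _)).trans
      ((congrArg₂ (· + ·) (ha.1 h) (hb.1 h)).trans (add_zero _))
  · obtain ⟨n, hn⟩ := ha.2 hx
    obtain ⟨k, hk⟩ := hb.2 hx
    exact ⟨n + k, (((congrArg _ (map_add _ _ _)).trans (map_add _ _ _)).trans
      (congrArg₂ (· + ·) hn hk)).trans (add_zsmul _ n k).symm⟩

/-- The free sheaf is cyclic without annihilators. -/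
theorem isCyc_freeSh (U : Opens X) : IsCyc U (freeSh U) (CohVanish.gen U) fun _ => ⊥ := by
  refine ⟨fun x hx a => ?_, fun x hx a => ?_, fun x hx n => ⟨fun h => ?_, fun h => ?_⟩⟩
  · obtain ⟨V, hxV, t, rfl⟩ := TopCat.Presheaf.exists_germ_eq (F := (freeSh U).obj) a
    exact (exists_gm_free x hxV t).1 hx
  · obtain ⟨V, hxV, t, rfl⟩ := TopCat.Presheaf.exists_germ_eq (F := (freeSh U).obj) a
    exact (exists_gm_free x hxV t).2 hx
  · let W : PEmpty.{u + 1} → Opens X := fun _ => U
    refine mem_of_gm_coker W (fun _ => le_rfl) (fun _ => 0) x hx n ?_ ⊥ fun a => a.elim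
    have h1 := congrArg (stMap (cokernel.π (Sigma.desc fun a : PEmpty.{u + 1} =>
      (0 : ℤ) • freeMap (homOfLE (le_rfl : W a ≤ U)))) x) h
    rw [map_zsmul, map_zero, stMap_gm] at h1
    exact h1
  · rw [(AddSubgroup.mem_bot.1 h : n = 0)]
    exact zero_smul ℤ _

/-- Quotients of cyclic sheaves by an epimorphism. -/
lemma IsCyc.off_of_epi {U : Opens X} {F G : AbSh X} {s : F.obj.obj (op U)} {σ : X → AddSubgroup ℤ}
    (h : IsCyc U F s σ) (π : F ⟶ G) [Epi π] {x : X} (hx : x ∉ U)
    (a : TopCat.Presheaf.stalk (C := AddCommGrpCat.{u}) G.obj x) : a = 0 := by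
  obtain ⟨b, rfl⟩ := surjective_stMap π x a
  rw [h.off x hx b, map_zero]

lemma IsCyc.gen_of_epi {U : Opens X} {F G : AbSh X} {s : F.obj.obj (op U)} {σ : X → AddSubgroup ℤ}
    (h : IsCyc U F s σ) (π : F ⟶ G) [Epi π] {x : X} (hx : x ∈ U)
    (a : TopCat.Presheaf.stalk (C := AddCommGrpCat.{u}) G.obj x) :
    ∃ n : ℤ, a = n • gm G U x hx (π.hom.app (op U) s) := by
  obtain ⟨b, rfl⟩ := surjective_stMap π x a
  obtain ⟨n, rfl⟩ := h.gen x hx b
  exact ⟨n, by rw [map_zsmul, stMap_gm]⟩

/-- The span of finitely many relations. -/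
def spanAt {ι : Type*} (W : ι → Opens X) (m : ι → ℤ) (x : X) : AddSubgroup ℤ :=
  AddSubgroup.closure {n | ∃ a, x ∈ W a ∧ m a = n}

/-- The cokernel of relations is cyclic. -/
theorem isCyc_coker {U : Opens X} {ι : Type u} (W : ι → Opens X) (hW : ∀ a, W a ≤ U) (m : ι → ℤ)
    [HasCoproduct fun a => freeSh (W a)] :
    IsCyc U (cokernel (Sigma.desc fun a => m a • freeMap (homOfLE (hW a))))
      ((cokernel.π (Sigma.desc fun a => m a • freeMap (homOfLE (hW a)))).hom.app (op U) (CohVanish.gen U))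
      (spanAt W m) := by
  let π := cokernel.π (Sigma.desc fun a => m a • freeMap (homOfLE (hW a)))
  refine ⟨fun x hx a => (isCyc_freeSh U).off_of_epi π hx a, fun x hx a => (isCyc_freeSh U).gen_of_epi π hx a,
    fun x hx n => ⟨fun h => mem_of_gm_coker W hW m x hx n h _ fun a ha => AddSubgroup.subset_closure ⟨a, ha, rfl⟩,
      fun h => ?_⟩⟩
  induction h using AddSubgroup.closure_induction with
  | zero => exact zero_smul ℤ _
  | add a b _ _ ha hb => rw [add_zsmul, ha, hb, add_zero]
  | neg a _ ha => rw [neg_zsmul, ha, neg_zero]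
  | mem n hn =>
    obtain ⟨a, ha, rfl⟩ := hn
    have h1 : (m a • freeMap (homOfLE (hW a))) ≫ cokernel.π (Sigma.desc fun a => m a • freeMap (homOfLE (hW a))) = 0 :=
      calc _ = (Sigma.ι _ a ≫ Sigma.desc fun a => m a • freeMap (homOfLE (hW a))) ≫ cokernel.π _ := by
              rw [Sigma.ι_desc]
        _ = 0 := by rw [Category.assoc, cokernel.condition, comp_zero]
    have h2 := congrArg sec h1
    rw [Preadditive.zsmul_comp, map_zsmul, map_zero, sec_freeMap] at h2
    have h3 := (congrArg (gm _ (W a) x ha) h2).trans (map_zero _)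
    refine Eq.trans ?_ h3
    rw [← gm_res _ (hW a) _ x ha]
    exact (map_zsmul _ _ _).symm

/-- The image of the section restricted to `V`, and the quotient by it. -/
theorem IsCyc.exists_ses {U V : Opens X} (hVU : V ≤ U) {F : AbSh X} {s : F.obj.obj (op U)}
    {σ : X → AddSubgroup ℤ} (h : IsCyc U F s σ) :
    ∃ (S : ShortComplex (AbSh X)) (_ : S.ShortExact) (_ : S.X₂ ≅ F) (a : S.X₁.obj.obj (op V))
      (b : S.X₃.obj.obj (op U)), IsCyc V S.X₁ a σ ∧
        ∀ τ : X → AddSubgroup ℤ, (∀ x, x ∈ V → τ x = ⊤) → (∀ x ∈ U, x ∉ V → τ x = σ x) → IsCyc U S.X₃ b τ := by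
  let ψ := ofSection V F (F.obj.map (homOfLE hVU).op s)
  let S : ShortComplex (AbSh X) :=
    ShortComplex.mk (Abelian.image.ι ψ) (cokernel.π (Abelian.image.ι ψ)) (cokernel.condition _)
  have hS : S.ShortExact :=
    { exact := ShortComplex.exact_cokernel _
      mono_f := inferInstanceAs (Mono (Abelian.image.ι ψ))
      epi_g := inferInstanceAs (Epi (cokernel.π _)) }
  haveI : Epi S.g := hS.epi_g
  haveI : Mono S.f := hS.mono_f
  haveI : Epi (Abelian.factorThruImage ψ) := inferInstance
  let a : S.X₁.obj.obj (op V) := (Abelian.factorThruImage ψ).hom.app (op V) (CohVanish.gen V)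
  have hfa : S.f.hom.app (op V) a = F.obj.map (homOfLE hVU).op s :=
    (congrArg sec (Abelian.image.fac ψ)).trans (sec_ofSection V F _)
  have hga : ∀ x (hx : x ∈ V), stMap S.f x (gm S.X₁ V x hx a) = gm F U x (hVU hx) s := fun x hx =>
    (stMap_gm S.f x hx a).trans ((congrArg _ hfa).trans (gm_res F hVU s x hx))
  refine ⟨S, hS, Iso.refl _, a, S.g.hom.app (op U) s, ⟨fun x hx t => (isCyc_freeSh V).off_of_epi (Abelian.factorThruImage ψ) hx t,
    fun x hx t => (isCyc_freeSh V).gen_of_epi (Abelian.factorThruImage ψ) hx t, fun x hx n => ?_⟩, fun τ hτ hτ' => ?_⟩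
  · refine Iff.trans ?_ (h.ann x (hVU hx) n)
    rw [← (injective_stMap S.f x).eq_iff, map_zsmul, map_zero, hga]
  refine ⟨fun x hx t => h.off_of_epi S.g hx t, fun x hx t => h.gen_of_epi S.g hx t, fun x hx n => ?_⟩
  rw [← stMap_gm S.g x hx s, ← map_zsmul (stMap S.g x)]
  constructor
  · intro hn
    obtain ⟨t, ht⟩ := exists_stMap_eq hS x _ hn
    by_cases hxV : x ∈ V
    · rw [hτ x hxV]
      trivial
    · rw [hτ' x hx hxV]
      refine (h.ann x hx n).1 ?_
      rw [← ht, (isCyc_freeSh V).off_of_epi (Abelian.factorThruImage ψ) hxV t, map_zero]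
  · intro hn
    by_cases hxV : x ∈ V
    · have e : stMap S.g x (stMap S.f x (gm S.X₁ V x hxV a)) = 0 := by
        rw [stMap_gm, stMap_gm, show S.g.hom.app (op V) (S.f.hom.app (op V) a) = (S.f ≫ S.g).hom.app (op V) a
          from rfl, S.zero]
        exact map_zero _
      rw [hga] at e
      rw [map_zsmul, e, smul_zero]
    · rw [(h.ann x hx n).2 (hτ' x hx hxV ▸ hn), map_zero]

/-- Cyclic sheaves with the same annihilators are isomorphic. -/
theorem IsCyc.nonempty_iso {U : Opens X} {F G : AbSh X} {s : F.obj.obj (op U)} {t : G.obj.obj (op U)}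
    {σ : X → AddSubgroup ℤ} (hF : IsCyc U F s σ) (hG : IsCyc U G t σ) : Nonempty (F ≅ G) := by
  have key : ∀ {F G : AbSh X} {s : F.obj.obj (op U)} {t : G.obj.obj (op U)}, IsCyc U F s σ → IsCyc U G t σ →
      Epi (ofSection U F s) ∧ kernel.ι (ofSection U F s) ≫ ofSection U G t = 0 := by
    intro F G s t hF hG
    constructor
    · refine (TopCat.Sheaf.isLocallySurjective_iff_epi _).1
        ((TopCat.Presheaf.locally_surjective_iff_surjective_on_stalks _).2 fun x a => ?_)
      by_cases hx : x ∈ U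
      · obtain ⟨n, rfl⟩ := hF.gen x hx a
        exact ⟨n • gm (freeSh U) U x hx (CohVanish.gen U),
          (map_zsmul (stMap (ofSection U F s) x) n _).trans (congrArg (n • ·) (stMap_ofSection s x hx))⟩
      · exact ⟨0, (map_zero (stMap (ofSection U F s) x)).trans (hF.off x hx a).symm⟩
    · apply Sheaf.hom_ext
      ext V k
      refine eq_of_gm G _ _ fun x hx => ?_
      refine (stMap_gm (kernel.ι (ofSection U F s) ≫ ofSection U G t) x hx k).symm.trans (Eq.trans ?_ (map_zero _).symm)
      rw [show stMap (kernel.ι (ofSection U F s) ≫ ofSection U G t) x (gm _ _ x hx k) =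
        stMap (ofSection U G t) x (stMap (kernel.ι (ofSection U F s)) x (gm _ _ x hx k)) by
          rw [stMap_gm, stMap_gm, stMap_gm]; rfl]
      by_cases hxU : x ∈ U
      · obtain ⟨n, hn⟩ := (isCyc_freeSh U).gen x hxU (stMap (kernel.ι (ofSection U F s)) x (gm _ _ x hx k))
        have h0 : stMap (ofSection U F s) x (stMap (kernel.ι (ofSection U F s)) x (gm _ _ x hx k)) = 0 := by
          rw [stMap_gm, stMap_gm, show ∀ b, (ofSection U F s).hom.app V ((kernel.ι (ofSection U F s)).hom.app V b) =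
            (kernel.ι (ofSection U F s) ≫ ofSection U F s).hom.app V b from fun _ => rfl, kernel.condition]
          exact map_zero _
        rw [hn, map_zsmul, stMap_ofSection, hF.ann x hxU] at h0
        rw [hn, map_zsmul, stMap_ofSection, hG.ann x hxU]
        exact h0
      · rw [(isCyc_freeSh U).off x hxU (stMap (kernel.ι (ofSection U F s)) x (gm _ _ x hx k)), map_zero]
  obtain ⟨_, h1⟩ := key hF hG
  obtain ⟨_, h2⟩ := key hG hF
  let K1 := Abelian.epiIsCokernelOfKernel _ (kernelIsKernel (ofSection U F s))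
  let K2 := Abelian.epiIsCokernelOfKernel _ (kernelIsKernel (ofSection U G t))
  let a : F ⟶ G := K1.desc (CokernelCofork.ofπ _ h1)
  let b : G ⟶ F := K2.desc (CokernelCofork.ofπ _ h2)
  have ea : ofSection U F s ≫ a = ofSection U G t := K1.fac (CokernelCofork.ofπ _ h1) WalkingParallelPair.one
  have eb : ofSection U G t ≫ b = ofSection U F s := K2.fac (CokernelCofork.ofπ _ h2) WalkingParallelPair.one
  exact ⟨⟨a, b, by rw [← cancel_epi (ofSection U F s), ← Category.assoc, ea, eb, Category.comp_id],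
    by rw [← cancel_epi (ofSection U G t), ← Category.assoc, eb, ea, Category.comp_id]⟩⟩

end Groth.Agent.CohColim
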