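import Groth.Agent.FiltDerived.Resolution
import Groth.Prelude.Def_DeltaF
import Mathlib.Algebra.Homology.DerivedCategory.Ext.ExactSequences
import Mathlib.CategoryTheory.Limits.Preserves.Shapes.Terminal

/-!
# Delta functors and exact colimits

A cohomological delta functor preserves colimits of a shape with exact colimits as soon as it does so in degree zero
and its higher degrees vanish on injectives and on colimits of injectives.
-/

set_option autoImplicit false
set_option linter.style.haveILetI false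

universe t v v' u u'

open CategoryTheory CategoryTheory.Limits CategoryTheory.Abelian Opposite

namespace Groth.Agent.CohColim

section Delta

variable {J : Type t} [SmallCategory J] {A : Type u} [Category.{v} A] [Abelian A] [EnoughInjectives A]
  [HasProducts.{t} A] [HasColimitsOfShape J A] [HasExactColimitsOfShape J A]
  {B : Type u'} [Category.{v'} B] [Abelian B] (T : DeltaF.CohDeltaFunctor A B ℕ)

/-- A delta functor whose higher degrees vanish on injectives and their colimits preserves colimits. -/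
theorem preservesColimitsOfShape_of_acyclic (h0 : PreservesColimitsOfShape J (T.F 0))
    (hinj : ∀ (I : A), Injective I → ∀ n, IsZero ((T.F (n + 1)).obj I))
    (hacyc : ∀ (D : J ⥤ A), (∀ j, Injective (D.obj j)) → ∀ n, IsZero ((T.F (n + 1)).obj (colimit D)))
    (n : ℕ) : PreservesColimitsOfShape J (T.F n) := by
  induction n with
  | zero => exact h0
  | succ n ih =>
    refine ⟨fun {D} => preservesColimit_of_preserves_colimit_cocone (colimit.isColimit D) ?_⟩
    haveI := FiltDerived.mono_toHull D
    let S : ShortComplex (J ⥤ A) :=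
      ShortComplex.mk (FiltDerived.toHull D) (cokernel.π (FiltDerived.toHull D)) (cokernel.condition _)
    have hS : S.ShortExact :=
      { exact := ShortComplex.exact_of_g_is_cokernel _ (cokernelIsCokernel _)
        mono_f := inferInstanceAs (Mono (FiltDerived.toHull D)) }
    haveI := FiltDerived.injective_hull D
    have hI : ∀ j, Injective (S.X₂.obj j) := fun j => FiltDerived.injective_app (FiltDerived.hull D) j
    have hSj : ∀ j, (S.map ((evaluation J A).obj j)).ShortExact := fun j => hS.map_of_exact _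
    have hSc : (S.map (colim : (J ⥤ A) ⥤ A)).ShortExact := hS.map_of_exact _
    let τ : ∀ j, S.map ((evaluation J A).obj j) ⟶ S.map (colim : (J ⥤ A) ⥤ A) := fun j =>
      { τ₁ := colimit.ι S.X₁ j
        τ₂ := colimit.ι S.X₂ j
        τ₃ := colimit.ι S.X₃ j
        comm₁₂ := ι_colimMap S.f j
        comm₂₃ := ι_colimMap S.g j }
    let δc := T.δ _ hSc n (n + 1) rfl
    let δj : ∀ j, (T.F n).obj (S.X₃.obj j) ⟶ (T.F (n + 1)).obj (S.X₁.obj j) := fun j =>
      T.δ _ (hSj j) n (n + 1) rfl
    haveI hεc : Epi δc := (T.exact₁ _ hSc n (n + 1) rfl).epi_f ((hacyc S.X₂ hI n).eq_of_tgt _ _)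
    have hεj : ∀ j, Epi (δj j) := fun j =>
      (T.exact₁ _ (hSj j) n (n + 1) rfl).epi_f ((hinj _ (hI j) n).eq_of_tgt _ _)
    have hnat : ∀ {j k : J} (f : j ⟶ k),
        (T.F n).map (S.X₃.map f) ≫ δj k = δj j ≫ (T.F (n + 1)).map (S.X₁.map f) := fun {j k} f =>
      T.δ_natural (hSj j) (hSj k) (S.mapNatTrans ((evaluation J A).map f)) n (n + 1) rfl
    have hδι : ∀ j, (T.F n).map (colimit.ι S.X₃ j) ≫ δc = δj j ≫ (T.F (n + 1)).map (colimit.ι S.X₁ j) :=
      fun j => T.δ_natural (hSj j) hSc (τ j) n (n + 1) rfl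
    have hQ := isColimitOfPreserves (T.F n) (colimit.isColimit S.X₃)
    have hP := isColimitOfPreserves (T.F n) (colimit.isColimit S.X₂)
    let t : ∀ s : Cocone (S.X₁ ⋙ T.F (n + 1)), (T.F n).obj (colimit S.X₃) ⟶ s.pt := fun s =>
      hQ.desc ⟨s.pt, { app := fun j => δj j ≫ s.ι.app j
                       naturality := fun j k f => by
                         show (T.F n).map (S.X₃.map f) ≫ δj k ≫ s.ι.app k = (δj j ≫ s.ι.app j) ≫ 𝟙 _
                         rw [← Category.assoc, hnat, Category.assoc, Category.comp_id]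
                         exact congrArg (CategoryStruct.comp _) (s.w f) }⟩
    have ht : ∀ s j, (T.F n).map (colimit.ι S.X₃ j) ≫ t s = δj j ≫ s.ι.app j := fun s j =>
      hQ.fac _ j
    have ht0 : ∀ s, (T.F n).map (S.map (colim : (J ⥤ A) ⥤ A)).g ≫ t s = 0 := fun s => hP.hom_ext fun j => by
      show (T.F n).map (colimit.ι S.X₂ j) ≫ (T.F n).map (colimMap S.g) ≫ t s =
        (T.F n).map (colimit.ι S.X₂ j) ≫ 0
      rw [← Category.assoc, ← (T.F n).map_comp, ι_colimMap, (T.F n).map_comp, Category.assoc, ht, comp_zero]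
      show (T.F n).map (S.g.app j) ≫ T.δ _ (hSj j) n (n + 1) rfl ≫ s.ι.app j = 0
      refine (Category.assoc _ _ _).symm.trans ?_
      refine (congrArg (fun x => x ≫ s.ι.app j) (T.comp_δ _ (hSj j) n (n + 1) rfl)).trans zero_comp
    refine IsColimit.ofExistsUnique fun s => ?_
    refine ⟨(T.exact₃ _ hSc n (n + 1) rfl).desc (t s) (ht0 s), fun j => ?_, fun m hm => ?_⟩
    · haveI := hεj j
      refine (cancel_epi (δj j)).1 ?_
      refine ((Category.assoc _ _ _).symm.trans (congrArg (fun x => x ≫ _) (hδι j).symm)).trans ?_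
      refine (Category.assoc _ _ _).trans ?_
      refine (congrArg (CategoryStruct.comp _) ((T.exact₃ _ hSc n (n + 1) rfl).g_desc (t s) (ht0 s))).trans (ht s j)
    · refine (cancel_epi δc).1 ?_
      refine Eq.trans (hQ.hom_ext fun j => ?_) ((T.exact₃ _ hSc n (n + 1) rfl).g_desc (t s) (ht0 s)).symm
      refine ((Category.assoc _ _ _).symm.trans (congrArg (fun x => x ≫ m) (hδι j))).trans ?_
      refine (Category.assoc _ _ _).trans ?_
      exact (congrArg (CategoryStruct.comp _) (hm j)).trans (ht s j).symm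

end Delta

section Ext

universe w

variable {A : Type u} [Category.{v} A] [Abelian A] [HasExt.{w} A] (Z : A)

/-- The delta functor `Ext^n(Z, -)`. -/
noncomputable def extDelta : DeltaF.CohDeltaFunctor A AddCommGrpCat.{w} ℕ where
  F n := extFunctorObj Z n
  additive _ := inferInstance
  δ _ hS _ _ h := AddCommGrpCat.ofHom (hS.extClass.postcomp Z h)
  δ_natural {S S'} hS hS' φ n₀ n₁ h := by
    subst h
    refine AddCommGrpCat.hom_ext (AddMonoidHom.ext fun (x : Ext.{w} Z S.X₃ n₀) => ?_)
    show (x.comp (Ext.mk₀ φ.τ₃) (add_zero n₀)).comp hS'.extClass rfl =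
      (x.comp hS.extClass rfl).comp (Ext.mk₀ φ.τ₁) (add_zero _)
    rw [Ext.comp_assoc_of_third_deg_zero, Ext.comp_assoc_of_second_deg_zero,
      ShortComplex.ShortExact.extClass_naturality hS hS' φ]
  exact₂ _ hS n := Ext.covariant_sequence_exact₂' Z hS n
  comp_δ S hS n₀ n₁ h := by
    refine AddCommGrpCat.hom_ext (AddMonoidHom.ext fun (x : Ext.{w} Z S.X₂ n₀) => ?_)
    show (x.comp (Ext.mk₀ S.g) (add_zero n₀)).comp hS.extClass h = 0
    rw [Ext.comp_assoc_of_second_deg_zero, ShortComplex.ShortExact.comp_extClass, Ext.comp_zero]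
  exact₃ _ hS n₀ n₁ h := Ext.covariant_sequence_exact₃' Z hS n₀ n₁ h
  δ_comp S hS n₀ n₁ h := by
    refine AddCommGrpCat.hom_ext (AddMonoidHom.ext fun (x : Ext.{w} Z S.X₃ n₀) => ?_)
    show (x.comp hS.extClass h).comp (Ext.mk₀ S.f) (add_zero n₁) = 0
    rw [Ext.comp_assoc_of_third_deg_zero, ShortComplex.ShortExact.extClass_comp, Ext.comp_zero]
  exact₁ _ hS n₀ n₁ h := Ext.covariant_sequence_exact₁' Z hS n₀ n₁ h

variable {J : Type t} [SmallCategory J] [EnoughInjectives A] [HasProducts.{t} A] [HasColimitsOfShape J A]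
  [HasExactColimitsOfShape J A]

omit [HasExt.{w} A] in
/-- `Ext^n(Z, -)` preserves colimits if `Hom(Z, -)` does and colimits of injectives have no higher Ext. -/
theorem preservesColimitsOfShape_ext [HasExt.{v} A] (h0 : PreservesColimitsOfShape J (preadditiveCoyoneda.obj (op Z) : A ⥤ AddCommGrpCat.{v}))
    (hacyc : ∀ (D : J ⥤ A), (∀ j, Injective (D.obj j)) → ∀ n, Subsingleton (Ext.{v} Z (colimit D) (n + 1)))
    (n : ℕ) : PreservesColimitsOfShape J (extFunctorObj.{v} Z n) :=
  preservesColimitsOfShape_of_acyclic (J := J) (extDelta (A := A) Z : DeltaF.CohDeltaFunctor A AddCommGrpCat.{v} ℕ)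
    (preservesColimitsOfShape_of_natIso (NatIso.ofComponents
      (fun Y => Ext.addEquiv₀.toAddCommGrpIso.symm) (fun {Y Y'} f => by
        ext φ
        exact (Ext.mk₀_comp_mk₀ φ f).symm) : preadditiveCoyoneda.obj (op Z) ≅ extFunctorObj.{v} Z 0))
    (fun I _ m => @AddCommGrpCat.isZero_of_subsingleton _
      (subsingleton_of_forall_eq 0 fun x => Ext.eq_zero_of_injective x))
    (fun (D : J ⥤ A) (hD : ∀ j, Injective (D.obj j)) m => @AddCommGrpCat.isZero_of_subsingleton ((extFunctorObj.{v} Z (m + 1)).obj (colimit D)) (hacyc D hD m)) n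

end Ext

end Groth.Agent.CohColim
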