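import Mathlib.Algebra.Homology.DerivedCategory.Ext.ExactSequences
import Mathlib.Algebra.Category.Grp.Limits
import Mathlib.CategoryTheory.Limits.Preserves.Filtered
import Mathlib.CategoryTheory.Preadditive.Injective.Basic

/-!
# Dévissage along a resolution whose terms are compact for a diagram of injectives
-/

set_option autoImplicit false
set_option linter.style.haveILetI false

universe t v u

open CategoryTheory CategoryTheory.Limits CategoryTheory.Abelian Opposite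

namespace Groth.Agent.CohColim

variable {A : Type u} [Category.{v} A] [Abelian A] [HasExt.{v} A]
  (X : ℕ → A) (d : ∀ q, X (q + 1) ⟶ X q) (hdd : ∀ q, d (q + 1) ≫ d q = 0)
  {Z : A} (ε : X 0 ⟶ Z) (hdε : d 0 ≫ ε = 0)

/-- The kernels of the resolution. -/
noncomputable def syz : ℕ → A
  | 0 => kernel ε
  | q + 1 => kernel (d q)

/-- The inclusion of a kernel. -/
noncomputable def syzι : ∀ q, syz X d ε q ⟶ X q
  | 0 => kernel.ι ε
  | q + 1 => kernel.ι (d q)

instance mono_syzι : ∀ q, Mono (syzι X d ε q)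
  | 0 => inferInstanceAs (Mono (kernel.ι ε))
  | q + 1 => inferInstanceAs (Mono (kernel.ι (d q)))

/-- The map onto a kernel. -/
noncomputable def syzπ : ∀ q, X (q + 1) ⟶ syz X d ε q
  | 0 => kernel.lift ε (d 0) hdε
  | q + 1 => kernel.lift (d q) (d (q + 1)) (hdd q)

omit [HasExt.{v} A] in
@[reassoc]
lemma syzπ_ι : ∀ q, syzπ X d hdd ε hdε q ≫ syzι X d ε q = d q
  | 0 => kernel.lift_ι _ _ _
  | _ + 1 => kernel.lift_ι _ _ _

variable (hex₀ : (ShortComplex.mk (d 0) ε hdε).Exact)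
  (hex : ∀ q, (ShortComplex.mk (d (q + 1)) (d q) (hdd q)).Exact)

omit [HasExt.{v} A] in
include hex₀ hex in
lemma epi_syzπ : ∀ q, Epi (syzπ X d hdd ε hdε q)
  | 0 => hex₀.epi_kernelLift
  | q + 1 => (hex q).epi_kernelLift

omit [HasExt.{v} A] in
lemma syz_zero (q : ℕ) : syzι X d ε (q + 1) ≫ syzπ X d hdd ε hdε q = 0 := by
  rw [← cancel_mono (syzι X d ε q), zero_comp, Category.assoc, syzπ_ι]
  exact kernel.condition _

omit [HasExt.{v} A] in
include hex₀ hex in
lemma syz_shortExact (q : ℕ) :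
    (ShortComplex.mk (syzι X d ε (q + 1)) (syzπ X d hdd ε hdε q) (syz_zero X d hdd ε hdε q)).ShortExact := by
  haveI := epi_syzπ X d hdd ε hdε hex₀ hex q
  exact
    { exact := ShortComplex.exact_of_f_is_kernel _ (KernelFork.IsLimit.ofι' _ _ fun {W} w hw =>
        ⟨kernel.lift (d q) w (by rw [← syzπ_ι X d hdd ε hdε q, ← Category.assoc, hw, zero_comp]),
          kernel.lift_ι _ _ _⟩) }

variable {J : Type t} [SmallCategory J] {D : J ⥤ A} {c : Cocone D}

omit [HasExt.{v} A] in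
include hex₀ hex in
/-- Maps from a kernel to a filtered colimit of injectives extend. -/
lemma exists_extend_colimit (hI : ∀ j, Injective (D.obj j))
    (hsurj : ∀ (q : ℕ) (f : X q ⟶ c.pt), ∃ (j : J) (g : X q ⟶ D.obj j), g ≫ c.ι.app j = f)
    (hinj : ∀ (q : ℕ) (j : J) (g : X q ⟶ D.obj j), g ≫ c.ι.app j = 0 → ∃ (k : J) (m : j ⟶ k), g ≫ D.map m = 0)
    (q : ℕ) (φ : syz X d ε q ⟶ c.pt) : ∃ ψ : X q ⟶ c.pt, syzι X d ε q ≫ ψ = φ := by
  obtain ⟨j, g, hg⟩ := hsurj (q + 1) (syzπ X d hdd ε hdε q ≫ φ)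
  obtain ⟨k, m, hm⟩ := hinj (q + 1 + 1) j (d (q + 1) ≫ g) (by
    rw [Category.assoc, hg, ← syzπ_ι X d hdd ε hdε (q + 1), Category.assoc,
      ← Category.assoc (syzι X d ε (q + 1)), syz_zero, zero_comp, comp_zero])
  have h := syz_shortExact X d hdd ε hdε hex₀ hex q
  haveI := epi_syzπ X d hdd ε hdε hex₀ hex (q + 1)
  haveI := epi_syzπ X d hdd ε hdε hex₀ hex q
  have hz : syzι X d ε (q + 1) ≫ g ≫ D.map m = 0 := by
    rw [← cancel_epi (syzπ X d hdd ε hdε (q + 1)), comp_zero, syzπ_ι_assoc, ← Category.assoc, hm]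
  haveI := hI k
  let θ : syz X d ε q ⟶ D.obj k := h.exact.desc (g ≫ D.map m) hz
  have hθ : syzπ X d hdd ε hdε q ≫ θ = g ≫ D.map m := h.exact.g_desc _ hz
  refine ⟨Injective.factorThru θ (syzι X d ε q) ≫ c.ι.app k, ?_⟩
  rw [← Category.assoc, Injective.comp_factorThru, ← cancel_epi (syzπ X d hdd ε hdε q), reassoc_of% hθ, c.w, hg]

include hex₀ hex in
/-- Ext groups of the kernels into a filtered colimit of injectives vanish. -/
lemma subsingleton_ext_syz
    (hext : ∀ (q : ℕ) (φ : syz X d ε q ⟶ c.pt), ∃ ψ : X q ⟶ c.pt, syzι X d ε q ≫ ψ = φ)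
    (n : ℕ) (hX : ∀ q, ∀ m < n, Subsingleton (Ext.{v} (X q) c.pt (m + 1))) :
    ∀ m < n, ∀ q, Subsingleton (Ext.{v} (syz X d ε q) c.pt (m + 1)) := by
  intro m
  induction m with
  | zero =>
    intro hm q
    have hS := syz_shortExact X d hdd ε hdε hex₀ hex q
    refine subsingleton_of_forall_eq 0 fun x => ?_
    haveI : Subsingleton (Ext.{v} (ShortComplex.mk _ _ (syz_zero X d hdd ε hdε q)).X₂ c.pt (0 + 1)) := hX (q + 1) 0 hm
    obtain ⟨y, rfl⟩ := Ext.contravariant_sequence_exact₃ hS c.pt x (Subsingleton.elim _ _) (n₀ := 0) rfl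
    obtain ⟨φ, rfl⟩ := (Ext.mk₀_bijective _ _).2 y
    obtain ⟨ψ, hψ⟩ := hext (q + 1) φ
    rw [← hψ, ← Ext.mk₀_comp_mk₀]
    exact hS.extClass_comp_assoc _
  | succ m ih =>
    intro hm q
    have hS := syz_shortExact X d hdd ε hdε hex₀ hex q
    refine subsingleton_of_forall_eq 0 fun x => ?_
    haveI : Subsingleton (Ext.{v} (ShortComplex.mk _ _ (syz_zero X d hdd ε hdε q)).X₂ c.pt (m + 1 + 1)) :=
      hX (q + 1) (m + 1) hm
    obtain ⟨y, rfl⟩ := Ext.contravariant_sequence_exact₃ hS c.pt x (Subsingleton.elim _ _) (n₀ := m + 1) (by omega)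
    haveI : Subsingleton (Ext.{v} (ShortComplex.mk _ _ (syz_zero X d hdd ε hdε q)).X₁ c.pt (m + 1)) :=
      ih (by omega) (q + 1)
    rw [Subsingleton.elim y 0, Ext.comp_zero]

include hex₀ hex in
/-- A class killed by the augmentation vanishes. -/
theorem ext_eq_zero_of_resolution [Epi ε]
    (hext : ∀ (q : ℕ) (φ : syz X d ε q ⟶ c.pt), ∃ ψ : X q ⟶ c.pt, syzι X d ε q ≫ ψ = φ)
    (n : ℕ) (hX : ∀ q, ∀ m < n, Subsingleton (Ext.{v} (X q) c.pt (m + 1)))
    (x : Ext.{v} Z c.pt (n + 1)) (hx : (Ext.mk₀ ε).comp x (zero_add _) = 0) : x = 0 := by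
  let S := ShortComplex.mk (kernel.ι ε) ε (kernel.condition ε)
  have hS : S.ShortExact :=
    { exact := ShortComplex.exact_of_f_is_kernel _ (kernelIsKernel ε)
      mono_f := inferInstanceAs (Mono (kernel.ι ε))
      epi_g := inferInstanceAs (Epi ε) }
  obtain ⟨y, rfl⟩ := Ext.contravariant_sequence_exact₃ hS c.pt x hx (n₀ := n) (by omega)
  cases n with
  | zero =>
    obtain ⟨φ, rfl⟩ := (Ext.mk₀_bijective _ _).2 y
    obtain ⟨ψ, hψ⟩ := hext 0 φ
    have hψ' : S.f ≫ ψ = φ := hψ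
    rw [← hψ', ← Ext.mk₀_comp_mk₀]
    exact hS.extClass_comp_assoc _
  | succ n =>
    haveI : Subsingleton (Ext.{v} S.X₁ c.pt (n + 1)) :=
      subsingleton_ext_syz X d hdd ε hdε hex₀ hex hext (n + 1) hX n (by omega) 0
    rw [Subsingleton.elim y 0, Ext.comp_zero]

end Groth.Agent.CohColim
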