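import Groth.Agent.CohColim.Tuples
import Groth.Agent.ToposFinLib.Filtered
import Groth.Prelude.Def_ToposFin2

/-!
# Fibre powers of an epimorphism of sheaves of sets and the exact free complex on them
-/

set_option autoImplicit false
set_option linter.style.haveILetI false
set_option backward.isDefEq.respectTransparency false
set_option backward.isDefEq.respectTransparency.types false
set_option backward.defeqAttrib.useBackward true

universe u

open CategoryTheory CategoryTheory.Limits Opposite Simplicial AlgebraicTopology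

namespace Groth.Agent.CohColim

open Groth.Agent.HypAcyc ToposFin

variable {C : Type u} [SmallCategory C] {J : GrothendieckTopology C}

/-- Iterated fibre powers with their map to the base. -/
noncomputable def pwPair {X K : Sh J} (π : X ⟶ K) : ℕ → Σ P : Sh J, P ⟶ K
  | 0 => ⟨X, π⟩
  | q + 1 => ⟨pullback (pwPair π q).2 π, pullback.snd (pwPair π q).2 π ≫ π⟩

/-- The fibre powers. -/
noncomputable abbrev pw {X K : Sh J} (π : X ⟶ K) (q : ℕ) : Sh J := (pwPair π q).1

variable {X K : Sh J} (π : X ⟶ K)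

lemma isPullback_app (q : ℕ) (V : Cᵒᵖ) :
    IsPullback ((pullback.fst (pwPair π q).2 π).hom.app V) ((pullback.snd (pwPair π q).2 π).hom.app V)
      ((pwPair π q).2.hom.app V) (π.hom.app V) :=
  ((IsPullback.of_hasPullback (pwPair π q).2 π).map (sheafToPresheaf J (Type u))).map
    ((evaluation Cᵒᵖ (Type u)).obj V)

/-- The tuple of a point of a fibre power. -/
noncomputable def pwPts : ∀ (q : ℕ) (V : Cᵒᵖ), (pw π q).obj.obj V → Fin (q + 1) → X.obj.obj V
  | 0, _, z => fun _ => z
  | q + 1, V, z => Fin.cons ((pullback.snd (pwPair π q).2 π).hom.app V z)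
      (pwPts q V ((pullback.fst (pwPair π q).2 π).hom.app V z))

lemma π_pwPts : ∀ (q : ℕ) (V : Cᵒᵖ) (z : (pw π q).obj.obj V) (a : Fin (q + 1)),
    π.hom.app V (pwPts π q V z a) = (pwPair π q).2.hom.app V z
  | 0, _, _, _ => rfl
  | q + 1, V, z, a => by
    refine Fin.cases rfl (fun j => ?_) a
    exact (π_pwPts q V _ j).trans (ConcreteCategory.congr_hom (isPullback_app π q V).w z)

lemma pwPts_map : ∀ (q : ℕ) {V W : Cᵒᵖ} (g : V ⟶ W) (z : (pw π q).obj.obj V) (a : Fin (q + 1)),
    pwPts π q W ((pw π q).obj.map g z) a = X.obj.map g (pwPts π q V z a)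
  | 0, _, _, _, _, _ => rfl
  | q + 1, V, W, g, z, a => by
    refine Fin.cases ?_ (fun j => ?_) a
    · exact NatTrans.naturality_apply (pullback.snd (pwPair π q).2 π).hom g z
    · refine Eq.trans (congrArg (fun y => pwPts π q W y j) ?_) (pwPts_map q g _ j)
      exact NatTrans.naturality_apply (pullback.fst (pwPair π q).2 π).hom g z

lemma pwPts_injective : ∀ (q : ℕ) (V : Cᵒᵖ), Function.Injective (pwPts π q V)
  | 0, _, _, _, h => congrFun h 0
  | q + 1, V, z, z', h => by
    refine Types.ext_of_isPullback (isPullback_app π q V) (pwPts_injective q V (funext fun j => ?_)) (congrFun h 0)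
    exact congrFun h j.succ

lemma pwPts_surjective : ∀ (q : ℕ) (V : Cᵒᵖ) (p : Fin (q + 1) → X.obj.obj V),
    (∀ a b, π.hom.app V (p a) = π.hom.app V (p b)) → ∃ z, pwPts π q V z = p
  | 0, _, p, _ => ⟨p 0, funext fun a => by rw [Fin.fin_one_eq_zero a]; rfl⟩
  | q + 1, V, p, hp => by
    obtain ⟨t, ht⟩ := pwPts_surjective q V (fun j => p j.succ) fun a b => hp _ _
    obtain ⟨z, hz₁, hz₂⟩ := Types.exists_of_isPullback (isPullback_app π q V) t (p 0)
      ((π_pwPts π q V t 0).symm.trans ((congrArg (π.hom.app V) (congrFun ht 0)).trans (hp _ _)))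
    refine ⟨z, funext fun a => Fin.cases hz₂ (fun j => ?_) a⟩
    exact (congrArg (fun y => pwPts π q V y j) hz₁).trans (congrFun ht j)

/-- Fibre powers are tuples. -/
noncomputable def pwIso (q : ℕ) : (pw π q).obj ≅ tupP π.hom q :=
  NatIso.ofComponents (fun V =>
    (Equiv.ofBijective (fun z => (⟨pwPts π q V z, fun a b => (π_pwPts π q V z a).trans (π_pwPts π q V z b).symm⟩ :
        Tup π.hom q V))
      ⟨fun z z' h => pwPts_injective π q V (congrArg Subtype.val h), fun p => by
        obtain ⟨z, hz⟩ := pwPts_surjective π q V p.1 p.2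
        exact ⟨z, Subtype.ext hz⟩⟩).toIso)
    fun {V W} g => TypeCat.Hom.ext (TypeCat.Fun.ext (funext fun z =>
      Subtype.ext (funext fun a => pwPts_map π q g z a)))

/-- The terms of the complex of free sheaves on tuples. -/
noncomputable abbrev tupCx (J : GrothendieckTopology C) {X K : Cᵒᵖ ⥤ Type u} (p : X ⟶ K) (q : ℕ) :
    Sheaf J AddCommGrpCat.{u} :=
  (presheafToSheaf J AddCommGrpCat.{u}).obj ((chainP (tupS p)).X q)

/-- The free sheaf on a fibre power. -/
noncomputable def freePwIso (q : ℕ) : (ToposFin.freeAb J).obj (pw π q) ≅ tupCx J π.hom q :=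
  (presheafToSheaf J AddCommGrpCat.{u}).mapIso (Functor.isoWhiskerRight (pwIso π q) AddCommGrpCat.free.{u})

section Exact

variable {X K : Cᵒᵖ ⥤ Type u} (p : X ⟶ K)

/-- The augmentation of the free presheaves. -/
noncomputable def tupAugP : (chainP (tupS p)).X 0 ⟶ K ⋙ AddCommGrpCat.free.{u} where
  app V := AddCommGrpCat.ofHom (tupAug p (V := V.unop))
  naturality V W g := by
    refine AddCommGrpCat.hom_ext (FreeAbelianGroup.lift_ext _ _ fun x => ?_)
    show tupAug p (FreeAbelianGroup.map ((tupP p 0).map g) (FreeAbelianGroup.of x)) =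
      FreeAbelianGroup.map (K.map g) (tupAug p (FreeAbelianGroup.of x))
    simp only [tupAug, FreeAbelianGroup.map_of_apply]
    exact congrArg FreeAbelianGroup.of (NatTrans.naturality_apply p g (x.1 0))

lemma tupAugP_app (W : C) (c : Ch (tupS p) 0 W) : (tupAugP p).app (op W) c = tupAug p c := rfl

lemma d_tupAugP : (chainP (tupS p)).d 1 0 ≫ tupAugP p = 0 := by
  refine NatTrans.ext (funext fun W => AddCommGrpCat.hom_ext (FreeAbelianGroup.lift_ext _ _ fun x => ?_))
  refine (congrArg ((tupAugP p).app W) (chainP_d_app (tupS p) 0 W.unop (FreeAbelianGroup.of x))).trans ?_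
  show tupAug p _ = (0 : FreeAbelianGroup (K.obj W))
  simp [bd_of, tupAug, Fin.sum_univ_two, FreeAbelianGroup.map_of_apply, tupBase_face]

lemma tupAug_rsC {W V : C} (g : V ⟶ W) (c : Ch (tupS p) 0 W) :
    tupAug p (rsC g c) = FreeAbelianGroup.map (K.map g.op) (tupAug p c) := by
  induction c using FreeAbelianGroup.induction_on with
  | zero => simp
  | of x =>
    simp only [tupAug, rsC, FreeAbelianGroup.map_of_apply]
    exact congrArg FreeAbelianGroup.of (tupBase_rs p g x)
  | neg x hx => simp only [map_neg, hx]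
  | add x y hx hy => simp only [map_add, hx, hy]

variable (J) in
/-- The differential of free sheaves. -/
noncomputable def tupD (q : ℕ) : tupCx J p (q + 1) ⟶ tupCx J p q :=
  (presheafToSheaf J AddCommGrpCat.{u}).map ((chainP (tupS p)).d (q + 1) q)

variable (J) in
/-- The augmentation of free sheaves. -/
noncomputable def tupEps : tupCx J p 0 ⟶ (presheafToSheaf J AddCommGrpCat.{u}).obj (K ⋙ AddCommGrpCat.free.{u}) :=
  (presheafToSheaf J AddCommGrpCat.{u}).map (tupAugP p)

variable (J) in
lemma tupD_tupD (q : ℕ) : tupD J p (q + 1) ≫ tupD J p q = 0 :=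
  ((presheafToSheaf J AddCommGrpCat.{u}).map_comp _ _).symm.trans
    ((congrArg _ ((chainP (tupS p)).d_comp_d _ _ _)).trans (Functor.map_zero _ _ _))

variable (J) in
lemma tupD_tupEps : tupD J p 0 ≫ tupEps J p = 0 :=
  ((presheafToSheaf J AddCommGrpCat.{u}).map_comp _ _).symm.trans
    ((congrArg _ (d_tupAugP p)).trans (Functor.map_zero _ _ _))

variable [Presheaf.IsLocallySurjective J p]

lemma exact_tupD (q : ℕ) : (ShortComplex.mk _ _ (tupD_tupD J p q)).Exact := by
  refine exact_of_locally J _ _ ((chainP (tupS p)).d_comp_d _ _ _) rfl rfl _ fun W c hc => ?_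
  obtain ⟨S, hS, h⟩ := locally_decomp_succ (J := J) p c
  refine ⟨S, hS, fun V g hg => ⟨tupCone p (q + 1) (rsC g c), (chainP_d_app _ (q + 1) V _).trans ?_⟩⟩
  have h' := h g hg
  rw [bd_rsC, (chainP_d_app _ q W c).symm.trans hc, map_zero, map_zero, add_zero] at h'
  exact h'

lemma exact_tupEps : (ShortComplex.mk _ _ (tupD_tupEps J p)).Exact := by
  refine exact_of_locally J _ _ (d_tupAugP p) rfl rfl _ fun W c hc => ?_
  obtain ⟨S, hS, h⟩ := locally_decomp_zero (J := J) p c
  refine ⟨S, hS, fun V g hg => ⟨tupCone p 0 (rsC g c), (chainP_d_app _ 0 V _).trans ?_⟩⟩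
  have h' := h g hg
  rw [tupAug_rsC, show tupAug p c = 0 from (tupAugP_app p W c).symm.trans hc, map_zero, map_zero, add_zero] at h'
  exact h'

lemma epi_tupEps : Epi (tupEps J p) := by
  have key : ∀ (W : C) (s : FreeAbelianGroup (K.obj (op W))), ∃ S ∈ J W, ∀ ⦃V : C⦄ (g : V ⟶ W), S.arrows g →
      ∃ e : Ch (tupS p) 0 V, tupAug p e = FreeAbelianGroup.map (K.map g.op) s := by
    intro W s
    induction s using FreeAbelianGroup.induction_on with
    | zero => exact ⟨⊤, J.top_mem W, fun V g _ => ⟨0, by simp⟩⟩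
    | of k =>
      refine ⟨_, Presheaf.imageSieve_mem J p k, fun V g ⟨t, ht⟩ =>
        ⟨FreeAbelianGroup.of (⟨fun _ => t, fun _ _ => rfl⟩ : Tup p 0 (op V)), ?_⟩⟩
      simp only [tupAug, FreeAbelianGroup.map_of_apply]
      exact congrArg FreeAbelianGroup.of ht
    | neg k hk =>
      obtain ⟨S, hS, h⟩ := hk
      refine ⟨S, hS, fun V g hg => ?_⟩
      obtain ⟨e, he⟩ := h g hg
      exact ⟨-e, by simp only [map_neg, he]⟩
    | add a b ha hb =>
      obtain ⟨S, hS, h⟩ := ha
      obtain ⟨S', hS', h'⟩ := hb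
      refine ⟨S ⊓ S', J.intersection_covering hS hS', fun V g hg => ?_⟩
      obtain ⟨e, he⟩ := h g hg.1
      obtain ⟨e', he'⟩ := h' g hg.2
      exact ⟨e + e', by simp only [map_add, he, he']⟩
  haveI : Presheaf.IsLocallySurjective J (tupAugP p) := ⟨fun {W} s => by
    obtain ⟨S, hS, h⟩ := key W s
    exact J.superset_covering (fun V g hg => h g hg) hS⟩
  exact (Sheaf.isLocallySurjective_iff_epi' AddCommGrpCat.{u} (J := J) (tupEps J p)).1
    ((Presheaf.isLocallySurjective_presheafToSheaf_map_iff J (tupAugP p)).2 inferInstance)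

end Exact

end Groth.Agent.CohColim
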