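import Groth.Agent.CohColim.Site
import Mathlib.Topology.Spectral.Prespectral
import Mathlib.Topology.QuasiSeparated
import Mathlib.Topology.Category.TopCat.Opens

/-!
# Cohomology of compact opens commutes with filtered colimits
-/

set_option autoImplicit false
set_option linter.style.haveILetI false
set_option backward.isDefEq.respectTransparency false

universe u

open CategoryTheory CategoryTheory.Limits Opposite TopologicalSpace

namespace Groth.Agent.CohColim

variable {X : TopCat.{u}}

/-- Finite coverings by compact opens. -/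
def CompactCov (U : Opens X) (ι : Type u) (Y : ι → Over U) : Prop :=
  Finite ι ∧ IsCompact (U : Set X) ∧ iSup (fun i => (Y i).left) = U ∧ ∀ i, IsCompact ((Y i).left : Set X)

lemma prod_left_eq {U : Opens X} {n : ℕ} (f : Fin (n + 1) → Over U) :
    (∏ᶜ f).left = iInf fun k => (f k).left :=
  le_antisymm (le_iInf fun k => leOfHom (Pi.π f k).left) (by
    let W : Over U := Over.mk (homOfLE ((iInf_le (fun k => (f k).left) 0).trans (leOfHom (f 0).hom)))
    exact leOfHom (Pi.lift (fun k => (Over.homMk (homOfLE (iInf_le _ k)) : W ⟶ f k))).left)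

lemma isCompact_inf_seq [QuasiSeparatedSpace X] : ∀ {n : ℕ} (f : Fin (n + 1) → Opens X),
    (∀ k, IsCompact (f k : Set X)) → IsCompact ((iInf f : Opens X) : Set X)
  | 0, f, h => by
      rw [show iInf f = f 0 from le_antisymm (iInf_le f 0) (le_iInf fun k => by rw [Fin.fin_one_eq_zero k])]
      exact h 0
  | n + 1, f, h => by
      rw [show iInf f = f 0 ⊓ iInf (fun k : Fin (n + 1) => f k.succ) from le_antisymm
        (le_inf (iInf_le f 0) (le_iInf fun k : Fin (n + 1) => iInf_le f k.succ))
        (le_iInf fun k => Fin.cases inf_le_left (fun j => inf_le_right.trans (iInf_le _ j)) k)]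
      rw [Opens.coe_inf]
      exact IsCompact.inter_of_isOpen (h 0) (isCompact_inf_seq _ fun k => h k.succ) (f 0).2
        (iInf fun k : Fin (n + 1) => f k.succ : Opens X).2

variable [PrespectralSpace X] [QuasiSeparatedSpace X]

omit [PrespectralSpace X] in
lemma compactCov_spec (U : Opens X) (ι : Type u) (Y : ι → Over U) (h : CompactCov U ι Y) :
    Finite ι ∧ U ∈ {V : Opens X | IsCompact (V : Set X)} ∧
    Sieve.ofArrows (fun i => (Y i).left) (fun i => (Y i).hom) ∈ Opens.grothendieckTopology X U ∧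
    ∀ (p : ℕ) (a : Fin (p + 1) → ι), (∏ᶜ fun k => Y (a k)).left ∈ {V : Opens X | IsCompact (V : Set X)} := by
  obtain ⟨hfin, hU, hcov, hY⟩ := h
  refine ⟨hfin, hU, fun x hx => ?_, fun p a => ?_⟩
  · rw [← hcov] at hx
    obtain ⟨i, hi⟩ := Opens.mem_iSup.1 hx
    exact ⟨(Y i).left, (Y i).hom, (Sieve.mem_ofArrows_iff _ _ _).2 ⟨i, 𝟙 _, (Category.id_comp _).symm⟩, hi⟩
  · show IsCompact _
    rw [prod_left_eq]
    exact isCompact_inf_seq _ fun k => hY (a k)

omit [QuasiSeparatedSpace X] in
lemma exists_compactCov (U : Opens X) (hU : IsCompact (U : Set X)) (T : Sieve U)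
    (hT : T ∈ Opens.grothendieckTopology X U) :
    ∃ (ι : Type u) (Y : ι → Over U), CompactCov U ι Y ∧ ∀ i, T.arrows (Y i).hom := by
  have h : ∀ x : (U : Set X), ∃ (W : Opens X) (hW : W ≤ U), T.arrows (homOfLE hW) ∧ (x : X) ∈ W ∧
      IsCompact (W : Set X) := fun x => by
    obtain ⟨W, f, hf, hxW⟩ := hT x x.2
    obtain ⟨V, ⟨hVo, hVc⟩, hxV, hVW⟩ := PrespectralSpace.isTopologicalBasis.exists_subset_of_mem_open hxW W.2
    have hVW' : (⟨V, hVo⟩ : Opens X) ≤ W := hVW
    refine ⟨⟨V, hVo⟩, hVW'.trans (leOfHom f), ?_, hxV, hVc⟩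
    exact (Subsingleton.elim (homOfLE hVW' ≫ f) (homOfLE (hVW'.trans (leOfHom f)))) ▸ T.downward_closed hf _
  choose W hW hWT hxW hWc using h
  obtain ⟨t, ht⟩ := hU.elim_finite_subcover (fun x => (W x : Set X)) (fun x => (W x).2)
    (fun x hx => Set.mem_iUnion.2 ⟨⟨x, hx⟩, hxW ⟨x, hx⟩⟩)
  refine ⟨(t : Finset (U : Set X)), fun x => Over.mk (homOfLE (hW x.1)), ⟨inferInstance, hU, ?_, fun x => hWc x.1⟩,
    fun x => hWT x.1⟩
  refine le_antisymm (iSup_le fun x => hW x.1) fun x hx => ?_
  obtain ⟨y, hy, hxy⟩ := Set.mem_iUnion₂.1 (ht hx)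
  exact Opens.mem_iSup.2 ⟨⟨y, hy⟩, hxy⟩

/-- Cohomology on a compact open commutes with filtered colimits. -/
theorem preservesColimitsOfShape_extFree_top (U : Opens X) (hU : IsCompact (U : Set X))
    (I : Type u) [SmallCategory I] [IsFiltered I] (q : ℕ) :
    PreservesColimitsOfShape I (Abelian.extFunctorObj.{u} (SSExist.freeAb (Opens.grothendieckTopology X) U) q) :=
  preservesColimitsOfShape_extFree _ CompactCov compactCov_spec exists_compactCov hU q

theorem preservesColimitsOfShape_flip (U : Opens X) (hU : IsCompact (U : Set X))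
    (ι : Type u) [Preorder ι] [IsDirected ι (· ≤ ·)] [Nonempty ι] (q : ℕ) :
    PreservesColimitsOfShape ι
      ((Sheaf.cohomologyPresheafFunctor (Opens.grothendieckTopology X) q).flip.obj (op U) :
        Sheaf (Opens.grothendieckTopology X) AddCommGrpCat.{u} ⥤ AddCommGrpCat.{u}) :=
  haveI := preservesColimitsOfShape_extFree_top U hU ι q
  preservesColimitsOfShape_of_natIso (NatIso.ofComponents (fun _ => Iso.refl _) (fun _ => rfl) :
    Abelian.extFunctorObj.{u} (SSExist.freeAb (Opens.grothendieckTopology X) U) q ≅ _)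

end Groth.Agent.CohColim
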