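import Groth.Agent.CohColim.Cyclic
import Groth.Agent.CohColim.Top
import Groth.Agent.CohVanish.Global
import Groth.Agent.SpecColim.Basic
import Groth.Agent.SubobjQuot.Directed
import Mathlib.GroupTheory.SpecificGroups.Cyclic.Basic

/-!
# Vanishing is tested on extensions by zero of constant sheaves

On a compact prespectral quasi-separated space, vanishing in all degrees above `d` for the free
sheaves on compact opens implies it for all abelian sheaves.
-/

set_option autoImplicit false
set_option linter.style.haveILetI false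
set_option backward.isDefEq.respectTransparency false
set_option backward.isDefEq.respectTransparency.types false

universe u

open CategoryTheory CategoryTheory.Limits Opposite TopologicalSpace

namespace Groth.Agent.CohColim

open Groth.Agent.CohVanish Groth.Agent.CompactPull Groth.Agent.SubobjQuot
open scoped Groth.Agent.CohVanish

variable {X : TopCat.{u}}

/-- Cohomology vanishes above `d`. -/
def Vanish (d : ℕ) (F : AbSh X) : Prop := ∀ p, d < p → Subsingleton (EU F ⊤ p)

variable {d : ℕ}

lemma Vanish.of_iso {F G : AbSh X} (h : Vanish d F) (e : F ≅ G) : Vanish d G := fun p hp =>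
  subsingleton_of_forall_eq 0 fun x => by
    haveI := h p hp
    rw [← eMap_id (F := G) ⊤ p x, ← e.inv_hom_id, eMap_comp, Subsingleton.elim (eMap e.inv ⊤ p x) 0, map_zero]

lemma Vanish.of_isZero {F : AbSh X} (h : IsZero F) : Vanish d F := fun p _ =>
  subsingleton_of_forall_eq 0 fun x => by
    rw [← eMap_id (F := F) ⊤ p x, h.eq_of_src (𝟙 F) 0, eMap_apply, Abelian.Ext.mk₀_zero, Abelian.Ext.comp_zero]

lemma Vanish.middle {S : ShortComplex (AbSh X)} (hS : S.ShortExact) (h1 : Vanish d S.X₁) (h3 : Vanish d S.X₃) :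
    Vanish d S.X₂ := fun p hp => subsingleton_of_forall_eq 0 fun x => by
  haveI := h1 p hp
  haveI := h3 p hp
  obtain ⟨y, rfl⟩ := (eMap_g_eq_zero_iff hS ⊤ p x).1 (Subsingleton.elim _ _)
  rw [Subsingleton.elim y 0, map_zero]

lemma Vanish.right {S : ShortComplex (AbSh X)} (hS : S.ShortExact) (h1 : Vanish d S.X₁) (h2 : Vanish d S.X₂) :
    Vanish d S.X₃ := fun p hp => by
  haveI := h1 (p + 1) (by lia)
  haveI := h2 p hp
  exact (eDelta_injective hS ⊤ p).subsingleton

/-- The span of a list of relations. -/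
def listSpan : List (ℤ × Opens X) → X → AddSubgroup ℤ
  | [], _ => ⊥
  | a :: L, x => listSpan L x ⊔ ⨆ _ : x ∈ a.2, AddSubgroup.zmultiples a.1

/-- Annihilators given by a group, a killing open and relations. -/
def sigmaL (H : AddSubgroup ℤ) (W₀ : Opens X) (L : List (ℤ × Opens X)) (x : X) : AddSubgroup ℤ :=
  H ⊔ (⨆ _ : x ∈ W₀, (⊤ : AddSubgroup ℤ)) ⊔ listSpan L x

lemma sigmaL_of_mem (H : AddSubgroup ℤ) {W₀ : Opens X} (L : List (ℤ × Opens X)) {x : X} (h : x ∈ W₀) :
    sigmaL H W₀ L x = ⊤ := by
  rw [sigmaL, iSup_pos h, sup_top_eq, top_sup_eq]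

lemma sigmaL_of_not_mem (H : AddSubgroup ℤ) {W₀ : Opens X} (L : List (ℤ × Opens X)) {x : X} (h : x ∉ W₀) :
    sigmaL H W₀ L x = H ⊔ listSpan L x := by
  rw [sigmaL, iSup_neg h, sup_bot_eq]

lemma listSpan_eq (x : X) : ∀ L : List (ℤ × Opens X),
    listSpan L x = AddSubgroup.closure {n | ∃ a ∈ L, x ∈ a.2 ∧ a.1 = n}
  | [] => by simp [listSpan]
  | a :: L => by
    rw [listSpan, listSpan_eq x L]
    refine le_antisymm (sup_le (AddSubgroup.closure_mono fun n ⟨b, hb, h⟩ => ⟨b, List.mem_cons_of_mem _ hb, h⟩)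
      (iSup_le fun ha => AddSubgroup.zmultiples_le_of_mem
        (AddSubgroup.subset_closure ⟨a, List.mem_cons_self, ha, rfl⟩))) ((AddSubgroup.closure_le _).2 ?_)
    rintro n ⟨b, hb, hx, rfl⟩
    rcases List.mem_cons.1 hb with rfl | hb'
    · exact AddSubgroup.mem_sup_right (le_iSup (fun _ : x ∈ b.2 => AddSubgroup.zmultiples b.1) hx
        (AddSubgroup.mem_zmultiples _))
    · exact AddSubgroup.mem_sup_left (AddSubgroup.subset_closure ⟨b, hb', hx, rfl⟩)

lemma mono_of_injective_stMap {F G : AbSh X} (φ : F ⟶ G) (h : ∀ x, Function.Injective (stMap φ x)) : Mono φ := by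
  have h' : ∀ U : (Opens X)ᵒᵖ, Mono (φ.hom.app U) := fun U => by
    rw [AddCommGrpCat.mono_iff_injective, injective_iff_map_eq_zero]
    intro s hs
    refine eq_of_gm F s 0 fun x hx => h x ?_
    rw [stMap_gm, stMap_gm]
    exact congrArg _ (hs.trans (map_zero (φ.hom.app U).hom).symm)
  haveI : Mono φ.hom := NatTrans.mono_of_mono_app _
  exact (sheafToPresheaf _ _).mono_of_mono_map ‹Mono φ.hom›

variable (hfree : ∀ U : Opens X, IsCompact (U : Set X) → Vanish d (freeSh U))

include hfree in
/-- Constant annihilator. -/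
lemma vanish_of_const {U : Opens X} (hU : IsCompact (U : Set X)) (H : AddSubgroup ℤ) :
    ∃ (G : AbSh X) (s : G.obj.obj (op U)), IsCyc U G s (fun _ => H) ∧ Vanish d G := by
  obtain ⟨g, rfl⟩ := Int.subgroup_cyclic H
  let W : PUnit.{u + 1} → Opens X := fun _ => U
  have hc := isCyc_coker (U := U) W (fun _ => le_rfl) (fun _ => g)
  let ψ : (∐ fun a : PUnit.{u + 1} => freeSh (W a)) ⟶ freeSh U :=
    Limits.Sigma.desc fun a : PUnit.{u + 1} => g • freeMap (homOfLE (le_rfl : W a ≤ U))
  have hspan : ∀ x ∈ U, spanAt W (fun _ => g) x = AddSubgroup.closure {g} := fun x hx => by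
    refine congrArg AddSubgroup.closure (Set.ext fun n => ?_)
    exact ⟨fun ⟨_, _, e⟩ => e.symm, fun e => ⟨PUnit.unit, hx, e.symm⟩⟩
  refine ⟨_, _, hc.congr hspan, ?_⟩
  rcases eq_or_ne g 0 with rfl | hg
  · obtain ⟨e⟩ := (isCyc_freeSh U).nonempty_iso (hc.congr (σ' := fun _ => ⊥) fun x hx => by
      rw [hspan x hx]
      exact AddSubgroup.closure_singleton_zero)
    exact (hfree U hU).of_iso e
  · haveI : Mono ψ := by
      have hμ : Mono (g • 𝟙 (freeSh U)) := mono_of_injective_stMap _ fun x => by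
        have hsm : ∀ a, stMap (g • 𝟙 (freeSh U)) x a = g • a := fun a => by
          obtain ⟨V, hxV, t, rfl⟩ := TopCat.Presheaf.exists_germ_eq (F := (freeSh U).obj) a
          refine (stMap_gm _ x hxV t).trans ?_
          exact map_zsmul (TopCat.Presheaf.germ (C := AddCommGrpCat.{u}) (freeSh U).obj V x hxV).hom g t
        rw [injective_iff_map_eq_zero]
        intro a ha
        rw [hsm] at ha
        by_cases hx : x ∈ U
        · obtain ⟨n, rfl⟩ := (isCyc_freeSh U).gen x hx a
          rw [← mul_zsmul, (isCyc_freeSh U).ann x hx, AddSubgroup.mem_bot] at ha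
          rcases mul_eq_zero.1 ha with h' | h'
          · exact absurd h' hg
          · (rw [h']; exact zero_smul ℤ _)
        · exact (isCyc_freeSh U).off x hx a
      have e : ψ = (coproductUniqueIso (fun a => freeSh (W a))).hom ≫ (g • 𝟙 (freeSh U)) := by
        refine Limits.Sigma.hom_ext _ _ fun a => ?_
        rw [Limits.Sigma.ι_desc, show freeMap (homOfLE (le_rfl : W a ≤ U)) = 𝟙 (freeSh U) from
          (sec_bijective U (freeSh U)).1 (by
            rw [← Category.comp_id (freeMap _), sec_freeMap]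
            exact SpecColim.res_self (freeSh U) le_rfl _)]
        simp [W]
      rw [e]
      exact mono_comp _ _
    have hS : (ShortComplex.mk ψ (cokernel.π ψ) (cokernel.condition ψ)).ShortExact :=
      { exact := ShortComplex.exact_cokernel ψ
        mono_f := inferInstanceAs (Mono ψ)
        epi_g := inferInstanceAs (Epi (cokernel.π ψ)) }
    exact Vanish.right hS ((hfree U hU).of_iso (coproductUniqueIso (fun a => freeSh (W a))).symm) (hfree U hU)

variable [PrespectralSpace X] [QuasiSeparatedSpace X]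

omit [PrespectralSpace X] in
lemma isCompact_inf {U V : Opens X} (hU : IsCompact (U : Set X)) (hV : IsCompact (V : Set X)) :
    IsCompact ((U ⊓ V : Opens X) : Set X) :=
  QuasiSeparatedSpace.inter_isCompact _ _ U.2 hU V.2 hV

omit [PrespectralSpace X] in
include hfree in
/-- Cyclic sheaves with finitely many relations. -/
theorem vanish_of_isCyc : ∀ (L : List (ℤ × Opens X)), (∀ a ∈ L, IsCompact (a.2 : Set X)) →
    ∀ (U : Opens X), IsCompact (U : Set X) → ∀ (H : AddSubgroup ℤ) (W₀ : Opens X), IsCompact (W₀ : Set X) →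
      ∀ (F : AbSh X) (s : F.obj.obj (op U)), IsCyc U F s (sigmaL H W₀ L) → Vanish d F := by
  intro L
  induction L with
  | nil =>
    intro _ U hU H W₀ hW₀ F s hF
    obtain ⟨G, t, hG, hGv⟩ := vanish_of_const hfree hU H
    obtain ⟨S, hS, e, a, b, hA, hB⟩ := hG.exists_ses (inf_le_right : W₀ ⊓ U ≤ U)
    obtain ⟨G', t', hG', hG'v⟩ := vanish_of_const hfree (isCompact_inf hW₀ hU) H
    obtain ⟨eA⟩ := hG'.nonempty_iso hA
    have h3 := Vanish.right hS (hG'v.of_iso eA) (hGv.of_iso e.symm)
    obtain ⟨eB⟩ := ((hB (fun x => H ⊔ ⨆ _ : x ∈ W₀ ⊓ U, (⊤ : AddSubgroup ℤ))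
      (fun x hx => by simp only [iSup_pos hx, sup_top_eq])
      (fun x _ hx => by simp only [iSup_neg hx, sup_bot_eq])).congr (σ' := sigmaL H W₀ []) fun x hx => by
        by_cases h : x ∈ W₀
        · rw [sigmaL_of_mem _ _ h, iSup_pos (show x ∈ W₀ ⊓ U from ⟨h, hx⟩), sup_top_eq]
        · rw [sigmaL_of_not_mem _ _ h, iSup_neg (show x ∉ W₀ ⊓ U from fun h' => h h'.1), listSpan]).nonempty_iso hF
    exact h3.of_iso eB
  | cons r L ih =>
    intro hL U hU H W₀ hW₀ F s hF
    have hr := hL r List.mem_cons_self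
    have hL' : ∀ a ∈ L, IsCompact (a.2 : Set X) := fun a ha => hL a (List.mem_cons_of_mem _ ha)
    have hW : IsCompact ((W₀ ⊔ r.2 : Opens X) : Set X) := by
      rw [Opens.coe_sup]
      exact hW₀.union hr
    obtain ⟨S, hS, e, a, b, hA, hB⟩ := hF.exists_ses (inf_le_right : r.2 ⊓ U ≤ U)
    refine (Vanish.middle hS ?_ ?_).of_iso e
    · refine ih hL' _ (isCompact_inf hr hU) (H ⊔ AddSubgroup.zmultiples r.1) W₀ hW₀ _ a (hA.congr fun x hx => ?_)
      by_cases h0 : x ∈ W₀
      · rw [sigmaL_of_mem _ _ h0, sigmaL_of_mem _ _ h0]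
      · rw [sigmaL_of_not_mem _ _ h0, sigmaL_of_not_mem _ _ h0, listSpan, iSup_pos (show x ∈ r.2 from hx.1)]
        ac_rfl
    · refine ih hL' U hU H (W₀ ⊔ r.2) hW _ b (hB _ (fun x hx => ?_) (fun x hxU hx => ?_))
      · exact sigmaL_of_mem _ _ (Or.inr hx.1)
      · have hr' : x ∉ r.2 := fun h => hx ⟨h, hxU⟩
        by_cases h0 : x ∈ W₀
        · rw [sigmaL_of_mem _ _ (show x ∈ W₀ ⊔ r.2 from Or.inl h0), sigmaL_of_mem _ _ h0]
        · rw [sigmaL_of_not_mem _ _ (show x ∉ W₀ ⊔ r.2 from fun h => h.elim h0 hr'), sigmaL_of_not_mem _ _ h0,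
            listSpan, iSup_neg hr', sup_bot_eq]

section Fam

variable {P : Type u} {W : P → Opens X} {K : AbSh X} (φ : ∀ a, freeSh (W a) ⟶ K)

/-- The subsheaf generated by finitely many members of a family. -/
noncomputable def famImg (T : Finset P) : Subobject K := imageSubobject (Limits.Sigma.desc fun a : T => φ a.1)

omit [PrespectralSpace X] [QuasiSeparatedSpace X] in
lemma monotone_famImg : Monotone (famImg φ) := fun T T' h => by
  refine imageSubobject_le _ (Limits.Sigma.desc fun a : T => Limits.Sigma.ι (fun b : T' => freeSh (W b.1)) ⟨a.1, h a.2⟩ ≫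
    factorThruImageSubobject _) ?_
  refine Limits.Sigma.hom_ext _ _ fun a => ?_
  simp [famImg]

omit [PrespectralSpace X] [QuasiSeparatedSpace X] in
lemma factors_famImg (T : Finset P) (a : T) :
    (Limits.Sigma.ι (fun b : T => freeSh (W b.1)) a ≫ factorThruImageSubobject (Limits.Sigma.desc fun b : T => φ b.1)) ≫
      (famImg φ T).arrow = φ a.1 := by
  rw [Category.assoc]
  exact (congrArg (Limits.Sigma.ι (fun b : T => freeSh (W b.1)) a ≫ ·) (imageSubobject_arrow_comp _)).trans
    (Limits.Sigma.ι_desc (fun b : T => φ b.1) a)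

omit [PrespectralSpace X] [QuasiSeparatedSpace X] in
/-- A family covers if it reaches all germs. -/
lemma covers_famImg (h : ∀ (V : Opens X) (k : K.obj.obj (op V)) (x : X) (hx : x ∈ V),
    gm K V x hx k = 0 ∨ ∃ (a : P) (hW : W a ≤ V), x ∈ W a ∧ sec (φ a) = K.obj.map (homOfLE hW).op k) : Covers (famImg φ) := by
  intro Z g hg
  have hφ : ∀ a, φ a ≫ g = 0 := fun a => by
    classical
    rw [← factors_famImg φ {a} ⟨a, Finset.mem_singleton_self a⟩, Category.assoc, hg, comp_zero]
  apply Sheaf.hom_ext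
  ext V k
  refine eq_of_gm Z _ _ fun x hx => ?_
  obtain h0 | ⟨a, hW, hxa, ha⟩ := h V.unop k x hx
  · exact ((stMap_gm g x hx k).symm.trans ((congrArg _ h0).trans (map_zero _))).trans (map_zero _).symm
  refine ((gm_res Z hW _ x hxa).symm.trans (congrArg (gm Z (W a) x hxa) ?_)).trans ((map_zero _).trans (map_zero _).symm)
  rw [← SpecColim.app_res g hW k, ← ha, ← sec_comp, hφ, map_zero]

end Fam

section Colim

variable [CompactSpace X] {P : Type u} [DecidableEq P] {W : P → Opens X} {K : AbSh X} (φ : ∀ a, freeSh (W a) ⟶ K)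

omit [DecidableEq P] in
/-- Classes come from finitely generated subsheaves. -/
lemma exists_eMap_famImg (hc : Covers (famImg φ)) (q : ℕ) (x : EU K ⊤ q) :
    ∃ (T : Finset P) (y : EU ((famImg φ T : Subobject K) : AbSh X) ⊤ q), eMap (famImg φ T).arrow ⊤ q y = x := by
  haveI := preservesColimitsOfShape_extFree_top (⊤ : Opens X) isCompact_univ (Finset P) q
  have hcol := isColimitFam (famImg φ) (monotone_famImg φ) hc
  have h1 := isColimitOfPreserves
    (Abelian.extFunctorObj.{u} (SSExist.freeAb (Opens.grothendieckTopology X) (⊤ : Opens X)) q) hcol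
  obtain ⟨T, y, hy⟩ := Concrete.isColimit_exists_rep _ h1 x
  exact ⟨T, y, hy⟩

end Colim

include hfree in
/-- Quotients of free sheaves on compact opens. -/
theorem vanish_of_epi_free [CompactSpace X] {U : Opens X} (hU : IsCompact (U : Set X)) {Q : AbSh X}
    (π : freeSh U ⟶ Q) [Epi π] : Vanish d Q := by
  classical
  let P : Type u := {a : ULift.{u} ℤ × {W : Opens X // W ≤ U ∧ IsCompact (W : Set X)} //
    (a.1.down • freeMap (homOfLE a.2.2.1)) ≫ π = 0}
  let φ : ∀ a : P, freeSh a.1.2.1 ⟶ kernel π := fun a =>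
    kernel.lift π (a.1.1.down • freeMap (homOfLE a.1.2.2.1)) a.2
  have hcov : Covers (famImg φ) := covers_famImg φ fun V k x hx => by
    have hι : Mono (kernel.ι π) := inferInstance
    by_cases hxU : x ∈ U
    · obtain ⟨n, hn⟩ := (isCyc_freeSh U).gen x hxU (stMap (kernel.ι π) x (gm _ V x hx k))
      have hn' : gm (freeSh U) V x hx ((kernel.ι π).hom.app (op V) k) =
          gm (freeSh U) U x hxU (n • CohVanish.gen U) :=
        (stMap_gm _ x hx k).symm.trans (hn.trans (map_zsmul _ n _).symm)
      obtain ⟨W', hxW', i, j, e⟩ := TopCat.Presheaf.germ_eq (freeSh U).obj x hx hxU _ _ hn'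
      obtain ⟨W'', hxW'', hW'', hW''c⟩ := SpecColim.exists_compact_nbhd hxW'
      have hWU : W'' ≤ U := hW''.trans j.le
      have hWV : W'' ≤ V := hW''.trans i.le
      have e' : (kernel.ι π).hom.app (op W'') ((kernel π).obj.map (homOfLE hWV).op k) =
          sec (n • freeMap (homOfLE hWU)) := by
        rw [SpecColim.app_res, map_zsmul, ← Category.comp_id (freeMap (homOfLE hWU)), sec_freeMap, ← map_zsmul]
        refine (SpecColim.res_res (freeSh U) hW'' i.le _).symm.trans ?_
        exact (congrArg _ e).trans (SpecColim.res_res (freeSh U) hW'' j.le (n • CohVanish.gen U))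
      have hP : (n • freeMap (homOfLE hWU)) ≫ π = 0 := by
        refine (sec_bijective W'' Q).1 ?_
        rw [sec_comp, ← e', map_zero]
        exact (SpecColim.app_comp (kernel.ι π) π W'' _).symm.trans (by rw [kernel.condition]; rfl)
      refine Or.inr ⟨⟨⟨⟨n⟩, ⟨W'', hWU, hW''c⟩⟩, hP⟩, hWV, hxW'', ?_⟩
      refine ((AddCommGrpCat.mono_iff_injective ((kernel.ι π).hom.app (op W''))).1 ?_) ?_
      · haveI : Mono (kernel.ι π).hom := (sheafToPresheaf _ _).map_mono _
        infer_instance
      · rw [e', ← sec_comp, kernel.lift_ι]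
    · exact Or.inl (injective_stMap (kernel.ι π) x (((isCyc_freeSh U).off x hxU _).trans (map_zero _).symm))
  let K0 : ShortComplex (AbSh X) := ShortComplex.mk (kernel.ι π) π (kernel.condition π)
  have hK0 : K0.ShortExact :=
    { exact := ShortComplex.exact_kernel π
      mono_f := inferInstanceAs (Mono (kernel.ι π))
      epi_g := inferInstanceAs (Epi π) }
  intro p hp
  refine subsingleton_of_forall_eq 0 fun z => ?_
  obtain ⟨T, y, hy⟩ := exists_eMap_famImg φ hcov (p + 1) (eDelta hK0 ⊤ p z)
  let f : ((famImg φ T : Subobject (kernel π)) : AbSh X) ⟶ freeSh U := (famImg φ T).arrow ≫ kernel.ι π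
  have hT : (ShortComplex.mk f (cokernel.π f) (cokernel.condition f)).ShortExact :=
    { exact := ShortComplex.exact_cokernel f
      mono_f := inferInstanceAs (Mono ((famImg φ T).arrow ≫ kernel.ι π))
      epi_g := inferInstanceAs (Epi (cokernel.π f)) }
  have hv : Vanish d (cokernel f) := by
    let WT : T → Opens X := fun a => a.1.1.2.1
    let mT : T → ℤ := fun a => a.1.1.1.down
    have hψ : factorThruImageSubobject (Limits.Sigma.desc fun a : T => φ a.1) ≫ f =
        Limits.Sigma.desc fun a : T => mT a • freeMap (homOfLE a.1.1.2.2.1 : WT a ⟶ U) := by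
      refine (Category.assoc _ _ _).symm.trans ((congrArg (fun t => t ≫ kernel.ι π) (imageSubobject_arrow_comp _)).trans ?_)
      refine Limits.Sigma.hom_ext _ _ fun a => ?_
      rw [Limits.Sigma.ι_desc_assoc, Limits.Sigma.ι_desc]
      exact kernel.lift_ι _ _ _
    have hc := isCyc_coker (U := U) WT (fun a => a.1.1.2.2.1) mT
    refine Vanish.of_iso ?_ ((cokernelIsoOfEq hψ.symm) ≪≫ cokernelEpiComp _ f)
    refine vanish_of_isCyc hfree (T.toList.map fun a : P => (a.1.1.down, a.1.2.1)) ?_ U hU ⊥ ⊥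
      (by simp) _ _ (hc.congr fun x _ => ?_)
    · intro a ha
      obtain ⟨b, -, rfl⟩ := List.mem_map.1 ha
      exact b.1.2.2.2
    · rw [sigmaL, listSpan_eq, iSup_neg (show x ∉ (⊥ : Opens X) from fun h => h), sup_bot_eq, bot_sup_eq]
      refine congrArg AddSubgroup.closure (Set.ext fun n => ?_)
      refine ⟨fun ⟨a, hx, e⟩ => ⟨_, List.mem_map.2 ⟨a.1, Finset.mem_toList.2 a.2, rfl⟩, hx, e⟩, ?_⟩
      rintro ⟨_, ha, hx, e⟩
      obtain ⟨b, hb, rfl⟩ := List.mem_map.1 ha
      exact ⟨⟨b, Finset.mem_toList.1 hb⟩, hx, e⟩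
  have h0 : eMap f ⊤ (p + 1) y = 0 := by
    rw [eMap_comp, hy]
    exact (eMap_f_eq_zero_iff hK0 ⊤ p _).2 ⟨z, rfl⟩
  obtain ⟨w, hw⟩ := (eMap_f_eq_zero_iff hT ⊤ p y).1 h0
  haveI : Subsingleton (EU (ShortComplex.mk f (cokernel.π f) (cokernel.condition f)).X₃ ⊤ p) := hv p hp
  rw [Subsingleton.elim w 0, map_zero] at hw
  rw [← hw, map_zero] at hy
  obtain ⟨v, rfl⟩ := (eDelta_eq_zero_iff hK0 ⊤ p z).1 hy.symm
  haveI : Subsingleton (EU K0.X₂ ⊤ p) := hfree U hU p hp
  rw [Subsingleton.elim v 0, map_zero]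

include hfree in
/-- Vanishing for all sheaves. -/
theorem vanish_all [CompactSpace X] (F : AbSh X) : Vanish d F := by
  classical
  let P : Type u := Σ W : {W : Opens X // IsCompact (W : Set X)}, F.obj.obj (op W.1)
  let φ : ∀ a : P, freeSh a.1.1 ⟶ F := fun a => ofSection a.1.1 F a.2
  have hcov : Covers (famImg φ) := covers_famImg φ fun V k x hx => by
    obtain ⟨W, hxW, hW, hWc⟩ := SpecColim.exists_compact_nbhd hx
    exact Or.inr ⟨⟨⟨W, hWc⟩, F.obj.map (homOfLE hW).op k⟩, hW, hxW, sec_ofSection _ _ _⟩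
  have hfg : ∀ T : Finset P, Vanish d ((famImg φ T : Subobject F) : AbSh X) := by
    intro T
    induction T using Finset.induction_on with
    | empty =>
      refine Vanish.of_isZero ((IsZero.iff_id_eq_zero _).2 ?_)
      rw [← cancel_epi (factorThruImageSubobject (Limits.Sigma.desc fun a : (∅ : Finset P) => φ a.1))]
      exact Limits.Sigma.hom_ext _ _ fun a => absurd a.2 (Finset.notMem_empty _)
    | @insert a T ha ih =>
      let i := Subobject.ofLE _ _ (monotone_famImg φ (Finset.subset_insert a T))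
      have hS : (ShortComplex.mk i (cokernel.π i) (cokernel.condition i)).ShortExact :=
        { exact := ShortComplex.exact_cokernel i
          mono_f := inferInstanceAs (Mono (Subobject.ofLE _ _ (monotone_famImg φ (Finset.subset_insert a T))))
          epi_g := inferInstanceAs (Epi (cokernel.π i)) }
      refine Vanish.middle hS ih ?_
      let g : freeSh a.1.1 ⟶ cokernel i :=
        (Limits.Sigma.ι (fun b : (insert a T : Finset P) => freeSh b.1.1.1) ⟨a, Finset.mem_insert_self a T⟩ ≫
          factorThruImageSubobject _) ≫ cokernel.π i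
      haveI : Epi g := Preadditive.epi_of_cancel_zero _ fun {Z} t ht => by
        rw [← cancel_epi (cokernel.π i), comp_zero,
          ← cancel_epi (factorThruImageSubobject (Limits.Sigma.desc fun b : (insert a T : Finset P) => φ b.1)), comp_zero]
        refine Limits.Sigma.hom_ext _ _ fun ⟨b, hb⟩ => ?_
        rw [comp_zero]
        rcases Finset.mem_insert.1 hb with rfl | hb'
        · simpa only [g, Category.assoc] using ht
        · have hfac : Limits.Sigma.ι (fun c : (insert a T : Finset P) => freeSh c.1.1.1) ⟨b, hb⟩ ≫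
              factorThruImageSubobject (Limits.Sigma.desc fun c : (insert a T : Finset P) => φ c.1) =
              (Limits.Sigma.ι (fun c : T => freeSh c.1.1.1) ⟨b, hb'⟩ ≫
                factorThruImageSubobject (Limits.Sigma.desc fun c : T => φ c.1)) ≫ i := by
            refine (cancel_mono (famImg φ (insert a T)).arrow).1 ?_
            refine (factors_famImg φ (insert a T) ⟨b, hb⟩).trans ((factors_famImg φ T ⟨b, hb'⟩).symm.trans ?_)
            exact ((congrArg (fun t => (Limits.Sigma.ι (fun c : T => freeSh c.1.1.1) ⟨b, hb'⟩ ≫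
              factorThruImageSubobject (Limits.Sigma.desc fun c : T => φ c.1)) ≫ t)
              (Subobject.ofLE_arrow (monotone_famImg φ (Finset.subset_insert a T))).symm)).trans (Category.assoc _ _ _).symm
          rw [← Category.assoc, hfac, Category.assoc, cokernel.condition_assoc, zero_comp, comp_zero]
      exact vanish_of_epi_free hfree a.1.2 g
  intro p hp
  refine subsingleton_of_forall_eq 0 fun x => ?_
  obtain ⟨T, y, rfl⟩ := exists_eMap_famImg φ hcov p x
  haveI := hfg T p hp
  rw [Subsingleton.elim y 0, map_zero]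

end Groth.Agent.CohColim
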