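import Groth.Agent.CohColim.Coherent

/-!
# Cohomology of sites with a class of quasi-compact sheaves with enough refinements
-/

set_option autoImplicit false
set_option linter.style.haveILetI false
set_option backward.isDefEq.respectTransparency false
set_option backward.isDefEq.respectTransparency.types false
set_option backward.defeqAttrib.useBackward true

universe u

open CategoryTheory CategoryTheory.Limits CategoryTheory.Abelian Opposite

namespace Groth.Agent.CohColim

open ToposFin Groth.Agent.ToposFinLib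

variable {C : Type u} [SmallCategory C] {J : GrothendieckTopology C}

lemma epi_pullback_snd' {X Y B : Sh J} (f : X ⟶ B) (g : Y ⟶ B) [Epi f] : Epi (pullback.snd f g) :=
  ⟨fun a b h => isEpiFamily_pullback_snd (isEpiFamily_singleton f) g _ a b fun _ => h⟩

lemma jointlySurjective_iff {K : Sh J} {ι : Type u} {L : ι → Sh J} (f : ∀ i, L i ⟶ K) :
    CohCx.JointlySurjective f ↔ SGA4.IsEpiFamily f := by
  constructor
  · exact fun h => SheafTopos.Canonical.isEpiFamily_of_locally f fun V s => by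
      obtain ⟨S, hS, hSx⟩ := h V.unop s
      exact ⟨S, hS, fun W k hk => hSx W k hk⟩
  · intro h U s
    obtain ⟨S, hS, hSx⟩ := SheafTopos.InverseImage.locally_surjective_of_isEpiFamily f h (op U) s
    exact ⟨S, hS, fun V g hg => hSx hg⟩

lemma isQC_of_isQcObject {K : Sh J} (h : CohCx.IsQcObject K) : IsQC K := by
  rw [isQC_iff]
  intro ι F π hπ
  obtain ⟨t, ht⟩ := h ι F π ((jointlySurjective_iff π).2 hπ)
  exact ⟨t, (jointlySurjective_iff _).1 ht⟩

variable (S : Set (Sh J))

/-- Covered by a member of the class. -/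
def Cvd (X : Sh J) : Prop := ∃ K ∈ S, ∃ k : K ⟶ X, Epi k

/-- Covered by a member, with covered fibre products of members. -/
def RelCoh (X : Sh J) : Prop := Cvd S X ∧ ∀ A ∈ S, ∀ B ∈ S, ∀ (a : A ⟶ X) (b : B ⟶ X), Cvd S (pullback a b)

variable {S}

lemma Cvd.of_epi {X Y : Sh J} (h : Cvd S X) (f : X ⟶ Y) [Epi f] : Cvd S Y := by
  obtain ⟨K, hK, k, hk⟩ := h
  exact ⟨K, hK, k ≫ f, epi_comp _ _⟩

variable (h4 : ∀ K ∈ S, ∀ K' ∈ S, ∀ (a b : K ⟶ K'), ∃ (K'' : Sh J) (g : K'' ⟶ equalizer a b), K'' ∈ S ∧ Epi g)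

include h4 in
lemma cvd_equalizer {C' Y : Sh J} (hC : C' ∈ S) (u v : C' ⟶ Y) (hY : Cvd S (pullback u v)) :
    Cvd S (equalizer u v) := by
  obtain ⟨D, hD, d, hd⟩ := hY
  obtain ⟨E, g, hE, hg⟩ := h4 D hD C' hC (d ≫ pullback.fst u v) (d ≫ pullback.snd u v)
  let δ : equalizer u v ⟶ pullback u v := pullback.lift (equalizer.ι u v) (equalizer.ι u v) (equalizer.condition u v)
  let m : equalizer (d ≫ pullback.fst u v) (d ≫ pullback.snd u v) ⟶ equalizer u v :=
    equalizer.lift (equalizer.ι _ _ ≫ d ≫ pullback.fst u v) (by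
      simp only [Category.assoc]
      rw [pullback.condition]
      simpa using congrArg (fun z => z ≫ v)
        (equalizer.condition (d ≫ pullback.fst u v) (d ≫ pullback.snd u v)).symm)
  haveI : Epi (pullback.snd d δ) := epi_pullback_snd' d δ
  have hm : pullback.snd d δ = equalizer.lift (pullback.fst d δ) (by
      rw [reassoc_of% (pullback.condition (f := d) (g := δ)), reassoc_of% (pullback.condition (f := d) (g := δ))]
      simp [δ]) ≫ m := by
    apply equalizer.hom_ext
    simp only [m, Category.assoc, equalizer.lift_ι, equalizer.lift_ι_assoc]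
    rw [reassoc_of% (pullback.condition (f := d) (g := δ))]
    simp [δ]
  haveI : Epi m := epi_of_epi_fac hm.symm
  haveI : Epi g := hg
  exact ⟨E, hE, g ≫ m, epi_comp _ _⟩

include h4 in
lemma relCoh_pullback {X Y Z : Sh J} (f : X ⟶ Z) (g : Y ⟶ Z) (hX : RelCoh S X) (hY : RelCoh S Y) (hZ : RelCoh S Z) :
    RelCoh S (pullback f g) := by
  obtain ⟨⟨A, hA, a, ha⟩, hX2⟩ := hX
  obtain ⟨⟨B, hB, b, hb⟩, hY2⟩ := hY
  refine ⟨?_, fun A' hA' B' hB' a' b' => ?_⟩
  · haveI := ha
    haveI := hb
    obtain ⟨hc⟩ := (⟨hZ.2 A hA B hB (a ≫ f) (b ≫ g)⟩ : Nonempty _)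
    let m₁ : pullback (a ≫ f) (b ≫ g) ⟶ pullback f (b ≫ g) :=
      pullback.map _ _ _ _ a (𝟙 _) (𝟙 _) (by simp) (by simp)
    let m₂ : pullback f (b ≫ g) ⟶ pullback f g := pullback.map _ _ _ _ (𝟙 _) b (𝟙 _) (by simp) (by simp)
    haveI : Epi m₁ := by
      refine ⟨fun x y h => ?_⟩
      have hb₁ := isEpiFamily_baseChange (isEpiFamily_singleton a) (g := pullback.fst f (b ≫ g))
        (a := fun _ => pullback.fst (a ≫ f) (b ≫ g)) (b := fun _ => m₁) fun _ =>
          (IsPullback.of_right (h₁₁ := m₁) (h₁₂ := pullback.snd f (b ≫ g)) (h₂₁ := a) (h₂₂ := f)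
            (v₁₁ := pullback.fst (a ≫ f) (b ≫ g))
            (by simpa [m₁] using (IsPullback.of_hasPullback (a ≫ f) (b ≫ g)).flip) (by simp [m₁])
            (IsPullback.of_hasPullback f (b ≫ g)).flip).flip
      exact hb₁ _ x y fun _ => h
    haveI : Epi m₂ := by
      refine ⟨fun x y h => ?_⟩
      have hb₂ := isEpiFamily_baseChange (isEpiFamily_singleton b) (g := pullback.snd f g)
        (a := fun _ => pullback.snd f (b ≫ g)) (b := fun _ => m₂) fun _ =>
          (IsPullback.of_right (h₁₁ := m₂) (h₁₂ := pullback.fst f g) (h₂₁ := b) (h₂₂ := g)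
            (v₁₁ := pullback.snd f (b ≫ g))
            (by simpa [m₂] using IsPullback.of_hasPullback f (b ≫ g)) (by simp [m₂])
            (IsPullback.of_hasPullback f g)).flip
      exact hb₂ _ x y fun _ => h
    exact hc.of_epi (m₁ ≫ m₂)
  · obtain ⟨C', hC', k, hk⟩ := hX2 A' hA' B' hB' (a' ≫ pullback.fst f g) (b' ≫ pullback.fst f g)
    let u := k ≫ pullback.fst _ _ ≫ a' ≫ pullback.snd f g
    let v := k ≫ pullback.snd _ _ ≫ b' ≫ pullback.snd f g
    have hE := cvd_equalizer h4 hC' u v (hY2 C' hC' C' hC' u v)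
    let j : pullback a' b' ⟶ pullback (a' ≫ pullback.fst f g) (b' ≫ pullback.fst f g) :=
      pullback.map _ _ _ _ (𝟙 _) (𝟙 _) (pullback.fst f g) (by simp) (by simp)
    let m : equalizer u v ⟶ pullback a' b' :=
      pullback.lift (equalizer.ι u v ≫ k ≫ pullback.fst _ _) (equalizer.ι u v ≫ k ≫ pullback.snd _ _) (by
        refine pullback.hom_ext ?_ ?_
        · simp only [Category.assoc]
          rw [pullback.condition]
        · simpa [u, v] using equalizer.condition u v)
    haveI := hk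
    haveI : Epi (pullback.snd k j) := epi_pullback_snd' k j
    have hq : pullback.fst k j ≫ u = pullback.fst k j ≫ v := by
      simp only [u, v]
      rw [reassoc_of% (pullback.condition (f := k) (g := j)), reassoc_of% (pullback.condition (f := k) (g := j))]
      simp [j, pullback.condition_assoc]
    have hm : equalizer.lift (pullback.fst k j) hq ≫ m = pullback.snd k j := by
      refine pullback.hom_ext ?_ ?_
      · simp only [m, Category.assoc, pullback.lift_fst, equalizer.lift_ι_assoc]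
        rw [reassoc_of% (pullback.condition (f := k) (g := j))]
        simp [j]
      · simp only [m, Category.assoc, pullback.lift_snd, equalizer.lift_ι_assoc]
        rw [reassoc_of% (pullback.condition (f := k) (g := j))]
        simp [j]
    haveI : Epi m := epi_of_epi_fac hm
    exact hE.of_epi m

variable (h2 : ∀ (F : Sh J) (K : Sh J) (g : F ⟶ K), K ∈ S → Epi g →
    ∃ (K' : Sh J) (k : K' ⟶ F), K' ∈ S ∧ Epi (k ≫ g))
  (h3 : ∀ K ∈ S, ∀ K' ∈ S, ∃ (K'' : Sh J) (g : K'' ⟶ K ⨯ K'), K'' ∈ S ∧ Epi g)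

include h3 h4 in
lemma relCoh_of_mem {K : Sh J} (hK : K ∈ S) : RelCoh S K := by
  refine ⟨⟨K, hK, 𝟙 K, inferInstance⟩, fun A hA B hB a b => ?_⟩
  obtain ⟨D, d, hD, hd⟩ := h3 A hA B hB
  obtain ⟨E, g, hE, hg⟩ := h4 D hD K hK (d ≫ prod.fst ≫ a) (d ≫ prod.snd ≫ b)
  haveI := hd
  haveI := hg
  let j : pullback a b ⟶ A ⨯ B := prod.lift (pullback.fst a b) (pullback.snd a b)
  let m : equalizer (d ≫ prod.fst ≫ a) (d ≫ prod.snd ≫ b) ⟶ pullback a b :=
    pullback.lift (equalizer.ι _ _ ≫ d ≫ prod.fst) (equalizer.ι _ _ ≫ d ≫ prod.snd)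
      (by simpa using equalizer.condition (d ≫ prod.fst ≫ a) (d ≫ prod.snd ≫ b))
  haveI : Epi (pullback.snd d j) := epi_pullback_snd' d j
  have hq : pullback.fst d j ≫ d ≫ prod.fst ≫ a = pullback.fst d j ≫ d ≫ prod.snd ≫ b := by
    rw [reassoc_of% (pullback.condition (f := d) (g := j)), reassoc_of% (pullback.condition (f := d) (g := j))]
    simp [j, pullback.condition]
  have hm : equalizer.lift (pullback.fst d j) hq ≫ m = pullback.snd d j := by
    refine pullback.hom_ext ?_ ?_
    · simp only [m, Category.assoc, pullback.lift_fst, equalizer.lift_ι_assoc]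
      rw [reassoc_of% (pullback.condition (f := d) (g := j))]
      simp [j]
    · simp only [m, Category.assoc, pullback.lift_snd, equalizer.lift_ι_assoc]
      rw [reassoc_of% (pullback.condition (f := d) (g := j))]
      simp [j]
  haveI : Epi m := epi_of_epi_fac hm
  exact ⟨E, hE, g ≫ m, epi_comp _ _⟩

variable (h1 : ∃ K ∈ S, Epi (terminal.from K)) (h5 : ∀ K ∈ S, CohCx.IsQcObject K)

include h1 h2 h3 h4 h5 in
/-- Cohomology of the site commutes with filtered colimits. -/
theorem preservesColimitsOfShape_functorH_of_class (I : Type u) [SmallCategory I] [IsFiltered I] (q : ℕ) :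
    PreservesColimitsOfShape I (Sheaf.functorH J q : Sheaf J AddCommGrpCat.{u} ⥤ AddCommGrpCat.{u}) := by
  have hTop : RelCoh S (⊤_ (Sh J)) := by
    obtain ⟨K, hK, hK'⟩ := h1
    refine ⟨⟨K, hK, _, hK'⟩, fun A hA B hB a b => ?_⟩
    obtain ⟨D, d, hD, hd⟩ := h3 A hA B hB
    haveI := hd
    let e : A ⨯ B ⟶ pullback a b := pullback.lift prod.fst prod.snd (Subsingleton.elim _ _)
    haveI : IsSplitEpi e := ⟨⟨prod.lift (pullback.fst a b) (pullback.snd a b),
      pullback.hom_ext (by simp [e]) (by simp [e])⟩⟩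
    exact ⟨D, hD, d ≫ e, epi_comp _ _⟩
  haveI := preservesColimitsOfShape_extFreeAb (I := I) (RelCoh S)
    (fun X hX => by
      obtain ⟨K, hK, k, hk⟩ := hX.1
      haveI := hk
      exact isQC_of_epi k (isQC_of_isQcObject (h5 K hK)))
    (fun f g => relCoh_pullback h4 f g)
    (fun {X E} e hX he => by
      obtain ⟨K, hK, k, hk⟩ := hX.1
      haveI := he
      obtain ⟨K', k', hK', hk'⟩ := h2 _ K (pullback.snd e k) hK (epi_pullback_snd' e k)
      refine ⟨K', k' ≫ pullback.fst e k, relCoh_of_mem h4 h3 hK', ?_⟩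
      haveI := hk
      rw [Category.assoc, pullback.condition, ← Category.assoc]
      haveI := hk'
      exact epi_comp _ _)
    hTop q
  exact preservesColimitsOfShape_of_natIso (F := extFunctorObj.{u} ((ToposFin.freeAb J).obj (⊤_ (Sh J))) q)
    (extObjIso freeTerminalIso q ≪≫ NatIso.ofComponents (fun _ => Iso.refl _) (fun _ => rfl))

end Groth.Agent.CohColim
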