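import Groth.Agent.CohColim.Delta
import Groth.Agent.SSExist.CechSite
import Groth.Agent.SSExist.SiteSheaf
import Groth.Agent.SSExist.TopBridge
import Mathlib.CategoryTheory.Limits.Types.Filtered
import Mathlib.Algebra.Category.Grp.FilteredColimits

/-!
# Filtered colimits and cohomology on sites with finite coverings
-/

set_option autoImplicit false
set_option linter.style.haveILetI false
set_option backward.isDefEq.respectTransparency false
set_option backward.isDefEq.respectTransparency.types false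

universe u

open CategoryTheory CategoryTheory.Limits Opposite

namespace Groth.Agent.CohColim

variable {C : Type u} [SmallCategory C] {J : GrothendieckTopology C} {I : Type u} [SmallCategory I] [IsFiltered I]

/-- A criterion for colimits of abelian groups in terms of elements. -/
theorem preservesColimit_addCommGrp {A : Type*} [Category A] {D : I ⥤ A} {c : Cocone D} (hc : IsColimit c)
    (G : A ⥤ AddCommGrpCat.{u}) (hsurj : ∀ x : G.obj c.pt, ∃ i y, G.map (c.ι.app i) y = x)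
    (hinj : ∀ (i : I) (y : G.obj (D.obj i)), G.map (c.ι.app i) y = 0 → ∃ (k : I) (f : i ⟶ k), G.map (D.map f) y = 0) :
    PreservesColimit D G := by
  haveI : ReflectsColimit (D ⋙ G) (forget AddCommGrpCat.{u}) :=
    reflectsColimit_of_reflectsIsomorphisms _ (forget AddCommGrpCat.{u})
  refine preservesColimit_of_preserves_colimit_cocone hc (isColimitOfReflects (forget AddCommGrpCat.{u}) ?_)
  refine Types.FilteredColimit.isColimitOf' _ ((forget AddCommGrpCat.{u}).mapCocone (G.mapCocone c)) (fun x => ?_) (fun i y y' h => ?_)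
  · obtain ⟨i, y, hy⟩ := hsurj x
    exact ⟨i, y, hy.symm⟩
  · obtain ⟨k, f, hk⟩ := hinj i ((show G.obj (D.obj i) from y) - (show G.obj (D.obj i) from y')) (by
      rw [map_sub]
      exact sub_eq_zero.2 h)
    rw [map_sub, sub_eq_zero] at hk
    exact ⟨k, f, hk⟩

section Local

variable {D : I ⥤ Sheaf J AddCommGrpCat.{u}} (c : Cocone D)

/-- The comparison from the colimit of presheaves. -/
noncomputable def fromPre : colimit (D ⋙ sheafToPresheaf J AddCommGrpCat.{u}) ⟶ c.pt.obj :=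
  colimit.desc _ ((sheafToPresheaf J AddCommGrpCat.{u}).mapCocone c)

omit [IsFiltered I] in
lemma ι_fromPre (i : I) :
    colimit.ι (D ⋙ sheafToPresheaf J AddCommGrpCat.{u}) i ≫ fromPre c = (c.ι.app i).hom :=
  colimit.ι_desc _ i

omit [IsFiltered I] in
lemma W_fromPre {c : Cocone D} (hc : IsColimit c) : J.W (fromPre c) := by
  let E := colimit.cocone (D ⋙ sheafToPresheaf J AddCommGrpCat.{u})
  let e := IsColimit.coconePointUniqueUpToIso (Sheaf.isColimitSheafifyCocone E (colimit.isColimit _)) hc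
  have h : toSheafify J E.pt ≫ e.hom.hom = fromPre c := colimit.hom_ext fun i => by
    refine Eq.trans ?_ (ι_fromPre c i).symm
    refine Eq.trans ?_ (congrArg (fun m : D.obj i ⟶ c.pt => m.hom)
      (IsColimit.comp_coconePointUniqueUpToIso_hom (Sheaf.isColimitSheafifyCocone E (colimit.isColimit _)) hc i))
    show _ = ((Sheaf.sheafifyCocone E).ι.app i).hom ≫ e.hom.hom
    refine (Category.assoc _ _ _).symm.trans ?_
    exact congrArg (fun m => m ≫ e.hom.hom) (Sheaf.sheafifyCocone_ι_app_val E i).symm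
  rw [← h]
  haveI : IsIso e.hom.hom := inferInstanceAs (IsIso ((sheafToPresheaf J AddCommGrpCat.{u}).map e.hom))
  exact MorphismProperty.RespectsIso.postcomp J.W e.hom.hom _ (J.W_toSheafify _)

variable {c} (hc : IsColimit c)

lemma exists_rep_colimit_app (V : C) (x : (colimit (D ⋙ sheafToPresheaf J AddCommGrpCat.{u})).obj (op V)) :
    ∃ (i : I) (y : (D.obj i).obj.obj (op V)), (colimit.ι (D ⋙ sheafToPresheaf J AddCommGrpCat.{u}) i).app (op V) y = x :=
  Concrete.isColimit_exists_rep _ (isColimitOfPreserves ((evaluation Cᵒᵖ AddCommGrpCat.{u}).obj (op V))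
    (colimit.isColimit (D ⋙ sheafToPresheaf J AddCommGrpCat.{u}))) x

include hc in
/-- Sections of a filtered colimit locally come from a stage. -/
lemma exists_rep_local (V : C) (t : c.pt.obj.obj (op V)) :
    ∃ S ∈ J V, ∀ ⦃W : C⦄ (g : W ⟶ V), S g →
      ∃ (i : I) (s : (D.obj i).obj.obj (op W)), (c.ι.app i).hom.app (op W) s = c.pt.obj.map g.op t := by
  haveI : Presheaf.IsLocallySurjective J (fromPre c) := ((J.W_iff_isLocallyBijective _).1 (W_fromPre hc)).2
  refine ⟨_, Presheaf.imageSieve_mem J (fromPre c) t, fun W g hg => ?_⟩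
  obtain ⟨x, hx⟩ := hg
  obtain ⟨i, s, rfl⟩ := exists_rep_colimit_app W x
  exact ⟨i, s, (congrArg (fun m => (ConcreteCategory.hom (m.app (op W))) s) (ι_fromPre c i)).symm.trans hx⟩

include hc in
/-- A section killed in a filtered colimit is locally killed at a stage. -/
lemma exists_zero_local (i : I) (V : C) (s : (D.obj i).obj.obj (op V)) (hs : (c.ι.app i).hom.app (op V) s = 0) :
    ∃ S ∈ J V, ∀ ⦃W : C⦄ (g : W ⟶ V), S g →
      ∃ (k : I) (f : i ⟶ k), (D.map f).hom.app (op W) ((D.obj i).obj.map g.op s) = 0 := by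
  haveI : Presheaf.IsLocallyInjective J (fromPre c) := ((J.W_iff_isLocallyBijective _).1 (W_fromPre hc)).1
  let P := D ⋙ sheafToPresheaf J AddCommGrpCat.{u}
  have h0 : (fromPre c).app (op V) ((colimit.ι P i).app (op V) s) = (fromPre c).app (op V) 0 := by
    rw [map_zero]
    exact ((congrArg (fun m => (ConcreteCategory.hom (m.app (op V))) s) (ι_fromPre c i))).trans hs
  refine ⟨_, Presheaf.equalizerSieve_mem J (fromPre c) _ _ h0, fun W g hg => ?_⟩
  have h1 : (colimit.ι P i).app (op W) ((D.obj i).obj.map g.op s) = (colimit.ι P i).app (op W) 0 := by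
    rw [map_zero]
    refine (ConcreteCategory.congr_hom ((colimit.ι P i).naturality g.op) s).trans ?_
    exact Eq.trans hg (map_zero _)
  obtain ⟨k, f, f', hk⟩ := (Concrete.isColimit_rep_eq_iff_exists _ (isColimitOfPreserves
    ((evaluation Cᵒᵖ AddCommGrpCat.{u}).obj (op W)) (colimit.isColimit P)) _ _).1 h1
  exact ⟨k, f, hk.trans (map_zero _)⟩

end Local

omit [IsFiltered I] in
lemma app_map_comp (D : I ⥤ Sheaf J AddCommGrpCat.{u}) {i j k : I} (f : i ⟶ j) (g : j ⟶ k) (V : C)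
    (s : (D.obj i).obj.obj (op V)) :
    (D.map (f ≫ g)).hom.app (op V) s = (D.map g).hom.app (op V) ((D.map f).hom.app (op V) s) := by
  rw [D.map_comp]
  rfl

lemma res_app {F G : Sheaf J AddCommGrpCat.{u}} (φ : F ⟶ G) {V W : C} (g : W ⟶ V) (s : F.obj.obj (op V)) :
    φ.hom.app (op W) (F.obj.map g.op s) = G.obj.map g.op (φ.hom.app (op V) s) :=
  ConcreteCategory.congr_hom (φ.hom.naturality g.op) s

lemma res_comp (F : Sheaf J AddCommGrpCat.{u}) {U V W : C} (g : W ⟶ V) (h : V ⟶ U) (s : F.obj.obj (op U)) :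
    F.obj.map (g ≫ h).op s = F.obj.map g.op (F.obj.map h.op s) :=
  ConcreteCategory.congr_hom (F.obj.map_comp h.op g.op) s

/-- Finitely many vanishing statements hold at a common stage. -/
lemma exists_common {κ : Type*} [Finite κ] (D : I ⥤ Sheaf J AddCommGrpCat.{u}) {i : I} (V : κ → C)
    (s : ∀ a, (D.obj i).obj.obj (op (V a)))
    (h : ∀ a, ∃ (k : I) (f : i ⟶ k), (D.map f).hom.app (op (V a)) (s a) = 0) :
    ∃ (k : I) (f : i ⟶ k), ∀ a, (D.map f).hom.app (op (V a)) (s a) = 0 := by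
  classical
  haveI := Fintype.ofFinite κ
  choose k f hf using h
  suffices h : ∀ t : Finset κ, ∃ (m : I) (g : i ⟶ m), ∀ a ∈ t, (D.map g).hom.app (op (V a)) (s a) = 0 by
    obtain ⟨m, g, hg⟩ := h Finset.univ
    exact ⟨m, g, fun a => hg a (Finset.mem_univ a)⟩
  intro t
  induction t using Finset.induction with
  | empty => exact ⟨i, 𝟙 i, by simp⟩
  | insert b t _ ih =>
    obtain ⟨m, g, hg⟩ := ih
    obtain ⟨l, p, q, hpq⟩ := IsFiltered.span g (f b)
    refine ⟨l, g ≫ p, fun a ha => ?_⟩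
    rcases Finset.mem_insert.1 ha with rfl | ha
    · rw [hpq, app_map_comp, hf, map_zero]
    · rw [app_map_comp, hg a ha, map_zero]

section Cov

variable [HasPullbacks C] (B : Set C) (Cov : ∀ (U : C) (ι : Type u), (ι → Over U) → Prop)
  (h1 : ∀ (U : C) (ι : Type u) (Y : ι → Over U), Cov U ι Y → Finite ι ∧ U ∈ B ∧
    Sieve.ofArrows (fun i => (Y i).left) (fun i => (Y i).hom) ∈ J U ∧
    ∀ (p : ℕ) (a : Fin (p + 1) → ι), (∏ᶜ fun k => Y (a k)).left ∈ B)
  (h2 : ∀ U ∈ B, ∀ T ∈ J U, ∃ (ι : Type u) (Y : ι → Over U), Cov U ι Y ∧ ∀ i, (T : Sieve U).arrows (Y i).hom)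
  {D : I ⥤ Sheaf J AddCommGrpCat.{u}} {c : Cocone D} (hc : IsColimit c)

include h1 h2 hc in
lemma exists_zero_stage (i : I) {V : C} (hV : V ∈ B) (s : (D.obj i).obj.obj (op V))
    (hs : (c.ι.app i).hom.app (op V) s = 0) :
    ∃ (k : I) (f : i ⟶ k), (D.map f).hom.app (op V) s = 0 := by
  obtain ⟨S, hS, hS0⟩ := exists_zero_local hc i V s hs
  obtain ⟨κ, Y, hY, hYS⟩ := h2 V hV S hS
  obtain ⟨hfin, -, hmem, -⟩ := h1 V κ Y hY
  haveI := hfin
  obtain ⟨k, f, hk⟩ := exists_common D (fun a => (Y a).left) (fun a => (D.obj i).obj.map (Y a).hom.op s)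
    (fun a => hS0 _ (hYS a))
  refine ⟨k, f, ?_⟩
  have hsh : Presieve.IsSheafFor ((D.obj k).obj ⋙ forget AddCommGrpCat.{u})
      (SSExist.famSieve Y).arrows :=
    ((isSheaf_iff_isSheaf_of_type _ _).1 (Presheaf.isSheaf_comp_of_isSheaf J (D.obj k).obj (forget _) (D.obj k).property)) _ hmem
  refine hsh.isSeparatedFor.ext fun W g hg => ?_
  obtain ⟨a, b, rfl⟩ := (Sieve.mem_ofArrows_iff _ _ _).1 hg
  show (D.obj k).obj.map (b ≫ (Y a).hom).op _ = (D.obj k).obj.map (b ≫ (Y a).hom).op 0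
  rw [map_zero, res_comp, ← res_app, hk a, map_zero]

include h1 h2 hc in
lemma exists_rep_stage {V : C} (hV : V ∈ B) (t : c.pt.obj.obj (op V)) :
    ∃ (i : I) (s : (D.obj i).obj.obj (op V)), (c.ι.app i).hom.app (op V) s = t := by
  classical
  obtain ⟨S, hS, hSt⟩ := exists_rep_local hc V t
  obtain ⟨κ, Y, hY, hYS⟩ := h2 V hV S hS
  obtain ⟨hfin, -, hmem, hprod⟩ := h1 V κ Y hY
  haveI := hfin
  haveI := Fintype.ofFinite κ
  choose j s hs using fun a => hSt _ (hYS a)
  obtain ⟨i, hi⟩ := IsFiltered.sup_objs_exists (Finset.univ.image j)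
  let m : ∀ a, j a ⟶ i := fun a => (hi (Finset.mem_image_of_mem j (Finset.mem_univ a))).some
  let σ : ∀ a, (D.obj i).obj.obj (op (Y a).left) := fun a => (D.map (m a)).hom.app (op (Y a).left) (s a)
  have hσ : ∀ a, (c.ι.app i).hom.app (op (Y a).left) (σ a) = c.pt.obj.map (Y a).hom.op t := fun a => by
    refine Eq.trans ?_ (hs a)
    rw [← c.w (m a)]
    rfl
  let Z : κ × κ → C := fun p => (SSExist.prodObj Y ![p.1, p.2]).left
  let P₀ : ∀ p : κ × κ, Z p ⟶ (Y p.1).left := fun p => (Pi.π (Y ∘ ![p.1, p.2]) 0).left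
  let P₁ : ∀ p : κ × κ, Z p ⟶ (Y p.2).left := fun p => (Pi.π (Y ∘ ![p.1, p.2]) 1).left
  have hP : ∀ p : κ × κ, P₀ p ≫ (Y p.1).hom = P₁ p ≫ (Y p.2).hom := fun p =>
    (Over.w (Pi.π (Y ∘ ![p.1, p.2]) 0)).trans (Over.w (Pi.π (Y ∘ ![p.1, p.2]) 1)).symm
  let δ : ∀ p : κ × κ, (D.obj i).obj.obj (op (Z p)) := fun p =>
    (D.obj i).obj.map (P₀ p).op (σ p.1) - (D.obj i).obj.map (P₁ p).op (σ p.2)
  obtain ⟨k, f, hk⟩ := exists_common D Z δ fun p => by
    refine exists_zero_stage B Cov h1 h2 hc i (hprod 1 ![p.1, p.2]) (δ p) ?_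
    refine (map_sub _ _ _).trans (sub_eq_zero.2 ?_)
    refine (res_app (c.ι.app i) (P₀ p) (σ p.1)).trans (Eq.trans ?_ (res_app (c.ι.app i) (P₁ p) (σ p.2)).symm)
    refine (congrArg (c.pt.obj.map (P₀ p).op) (hσ p.1)).trans
      (Eq.trans ?_ (congrArg (c.pt.obj.map (P₁ p).op) (hσ p.2)).symm)
    refine (res_comp c.pt _ _ t).symm.trans (Eq.trans ?_ (res_comp c.pt _ _ t))
    exact congrArg (fun g => c.pt.obj.map (Quiver.Hom.op g) t) (hP p)
  have hsh : Presieve.IsSheafFor ((D.obj k).obj ⋙ forget AddCommGrpCat.{u}) (SSExist.famSieve Y).arrows :=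
    ((isSheaf_iff_isSheaf_of_type _ _).1 (Presheaf.isSheaf_comp_of_isSheaf J (D.obj k).obj (forget _) (D.obj k).property)) _ hmem
  have hsh' : Presieve.IsSheafFor ((D.obj k).obj ⋙ forget AddCommGrpCat.{u})
      (Presieve.ofArrows (fun a => (Y a).left) (fun a => (Y a).hom)) :=
    (Presieve.isSheafFor_iff_generate _).2 hsh
  let τ : ∀ a, (D.obj k).obj.obj (op (Y a).left) := fun a => (D.map f).hom.app (op (Y a).left) (σ a)
  obtain ⟨s₀, hs₀, -⟩ := (Presieve.isSheafFor_arrows_iff _ _).1 hsh' τ fun a b W ga gb hab => by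
    let W' : Over V := Over.mk (ga ≫ (Y a).hom)
    let qa : W' ⟶ Y a := Over.homMk ga rfl
    let qb : W' ⟶ Y b := Over.homMk gb hab.symm
    let l : W' ⟶ SSExist.prodObj Y ![a, b] := Pi.lift (Fin.cons qa (Fin.cons qb finZeroElim))
    have hla : l.left ≫ P₀ (a, b) = ga :=
      (congrArg (fun q => Over.Hom.left q) (Pi.lift_π _ 0) : Over.Hom.left (l ≫ Pi.π (Y ∘ ![a, b]) 0) = ga)
    have hlb : l.left ≫ P₁ (a, b) = gb :=
      (congrArg (fun q => Over.Hom.left q) (Pi.lift_π _ 1) : Over.Hom.left (l ≫ Pi.π (Y ∘ ![a, b]) 1) = gb)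
    have hab0 := hk (a, b)
    rw [map_sub, sub_eq_zero, res_app, res_app] at hab0
    have h' := congrArg (fun z => (D.obj k).obj.map l.left.op z) hab0
    show (D.obj k).obj.map ga.op (τ a) = (D.obj k).obj.map gb.op (τ b)
    refine ((congrArg (fun g => (D.obj k).obj.map (Quiver.Hom.op g) (τ a)) hla).symm.trans ?_).trans
      (congrArg (fun g => (D.obj k).obj.map (Quiver.Hom.op g) (τ b)) hlb)
    exact (res_comp (D.obj k) _ _ (τ a)).trans (h'.trans (res_comp (D.obj k) _ _ (τ b)).symm)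
  refine ⟨k, s₀, ?_⟩
  have hshc : Presieve.IsSheafFor (c.pt.obj ⋙ forget AddCommGrpCat.{u}) (SSExist.famSieve Y).arrows :=
    ((isSheaf_iff_isSheaf_of_type _ _).1 (Presheaf.isSheaf_comp_of_isSheaf J c.pt.obj (forget _) c.pt.property)) _ hmem
  refine hshc.isSeparatedFor.ext fun W g hg => ?_
  obtain ⟨a, b, rfl⟩ := (Sieve.mem_ofArrows_iff _ _ _).1 hg
  show c.pt.obj.map (b ≫ (Y a).hom).op _ = c.pt.obj.map (b ≫ (Y a).hom).op t
  rw [res_comp, res_comp]
  refine congrArg (c.pt.obj.map b.op) ((res_app (c.ι.app k) (Y a).hom s₀).symm.trans ?_)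
  refine ((congrArg _ (show (D.obj k).obj.map (Y a).hom.op s₀ = τ a from hs₀ a)).trans ?_)
  refine Eq.trans ?_ (hσ a)
  rw [← c.w f]
  rfl

include h1 h2 hc in
/-- Čech cohomology of a filtered colimit of injectives vanishes. -/
lemma isZero_cechH_colimit (hI : ∀ j, Injective (D.obj j)) {V : C} {κ : Type u} (Y : κ → Over V) (hY : Cov V κ Y)
    (n : ℕ) : IsZero (CohCx.cechH c.pt.obj Y (n + 1)) := by
  classical
  obtain ⟨hfin, -, -, hprod⟩ := h1 V κ Y hY
  haveI := hfin
  haveI : ∀ m : ℕ, Finite (Fin (m + 1) → κ) := fun m => inferInstance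
  let Φ := fun (j : I) => (SSExist.cechF Y).map (c.ι.app j).hom
  show IsZero (((SSExist.cechF Y).obj c.pt.obj).homology (n + 1))
  refine ((HomologicalComplex.exactAt_iff_isZero_homology ((SSExist.cechF Y).obj c.pt.obj) (n + 1)).1 ?_)
  rw [HomologicalComplex.exactAt_iff' ((SSExist.cechF Y).obj c.pt.obj) n (n + 1) (n + 1 + 1) (by simp) (by simp),
    ShortComplex.ab_exact_iff]
  intro z hz
  choose j s hs using fun x : Fin (n + 1 + 1) → κ => exists_rep_stage B Cov h1 h2 hc (hprod _ x)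
    (SSExist.cproj Y c.pt.obj (n + 1) x z)
  haveI := Fintype.ofFinite (Fin (n + 1 + 1) → κ)
  obtain ⟨i, hi⟩ := IsFiltered.sup_objs_exists (Finset.univ.image j)
  let m : ∀ x, j x ⟶ i := fun x => (hi (Finset.mem_image_of_mem j (Finset.mem_univ x))).some
  let w : ((SSExist.cechF Y).obj (D.obj i).obj).X (n + 1) :=
    SSExist.cmk Y (D.obj i).obj (n + 1) fun x => (D.map (m x)).hom.app _ (s x)
  have hw : (Φ i).f (n + 1) w = z := SSExist.cproj_ext Y fun x => by
    refine (SSExist.cechF_map_cproj Y _ _ x w).trans ?_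
    rw [SSExist.cproj_cmk]
    refine Eq.trans ?_ (hs x)
    rw [← c.w (m x)]
    rfl
  have hdw : (Φ i).f (n + 1 + 1) (((SSExist.cechF Y).obj (D.obj i).obj).d (n + 1) (n + 1 + 1) w) = 0 := by
    refine (ConcreteCategory.congr_hom ((Φ i).comm (n + 1) (n + 1 + 1)) w).symm.trans ?_
    exact (congrArg _ hw).trans hz
  obtain ⟨k, f, hk⟩ := exists_common D (fun x : Fin (n + 1 + 1 + 1) → κ => (SSExist.prodObj Y x).left)
    (fun x => SSExist.cproj Y (D.obj i).obj _ x (((SSExist.cechF Y).obj (D.obj i).obj).d (n + 1) (n + 1 + 1) w))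
    fun x => exists_zero_stage B Cov h1 h2 hc i (hprod _ x) _
      ((SSExist.cechF_map_cproj Y _ _ x _).symm.trans ((congrArg _ hdw).trans (map_zero _)))
  let ψ := (SSExist.cechF Y).map (D.map f).hom
  have hwk : ((SSExist.cechF Y).obj (D.obj k).obj).d (n + 1) (n + 1 + 1) (ψ.f (n + 1) w) = 0 := by
    refine (ConcreteCategory.congr_hom (ψ.comm (n + 1) (n + 1 + 1)) w).trans ?_
    exact SSExist.cproj_ext Y fun x => (SSExist.cechF_map_cproj Y _ _ x _).trans ((hk x).trans (map_zero _).symm)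
  haveI := hI k
  have hex := (HomologicalComplex.exactAt_iff_isZero_homology ((SSExist.cechF Y).obj (D.obj k).obj) (n + 1)).2 (SSExist.isZero_cechH_injective Y (D.obj k) n)
  rw [HomologicalComplex.exactAt_iff' ((SSExist.cechF Y).obj (D.obj k).obj) n (n + 1) (n + 1 + 1) (by simp) (by simp),
    ShortComplex.ab_exact_iff] at hex
  obtain ⟨y, hy⟩ := hex (ψ.f (n + 1) w) hwk
  refine ⟨(Φ k).f n y, ?_⟩
  refine (ConcreteCategory.congr_hom ((Φ k).comm n (n + 1)) y).trans ?_
  refine (congrArg ((Φ k).f (n + 1)) hy).trans (Eq.trans ?_ hw)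
  have e : ψ ≫ Φ k = Φ i := by
    refine ((SSExist.cechF Y).map_comp _ _).symm.trans (congrArg (SSExist.cechF Y).map ?_)
    exact congrArg (fun m : D.obj i ⟶ c.pt => m.hom) (c.w f)
  exact ConcreteCategory.congr_hom (congrArg (fun p => HomologicalComplex.Hom.f p (n + 1)) e) w

include h1 h2 in
/-- Cohomology commutes with filtered colimits for finite coverings. -/
theorem preservesColimitsOfShape_extFree {U : C} (hU : U ∈ B) (p : ℕ) :
    PreservesColimitsOfShape I (Abelian.extFunctorObj.{u} (SSExist.freeAb J U) p) := by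
  refine preservesColimitsOfShape_ext _ ?_ ?_ p
  · haveI : PreservesColimitsOfShape I (SSExist.secAb J U) := ⟨fun {D} =>
      preservesColimit_addCommGrp (colimit.isColimit D) _
        (exists_rep_stage B Cov h1 h2 (colimit.isColimit D) hU)
        (fun i y hy => exists_zero_stage B Cov h1 h2 (colimit.isColimit D) i hU y hy)⟩
    exact preservesColimitsOfShape_of_natIso (SSExist.secAbIso J U)
  · intro D hD m
    exact SSExist.subsingleton_HU_of_cech (J := J) B Cov
      (fun V κ Y hY => ⟨(h1 V κ Y hY).2.1, (h1 V κ Y hY).2.2.1, (h1 V κ Y hY).2.2.2⟩) h2 m (colimit D)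
      (fun V κ Y hY => isZero_cechH_colimit B Cov h1 h2 (colimit.isColimit D) hD Y hY) U hU

end Cov

end Groth.Agent.CohColim
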