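import Groth.Agent.CohColim.Coherent

/-!
# Cohomology with supports commutes with filtered colimits
-/

set_option autoImplicit false
set_option linter.style.haveILetI false
set_option backward.isDefEq.respectTransparency false
set_option backward.isDefEq.respectTransparency.types false
set_option backward.defeqAttrib.useBackward true

universe t u

open CategoryTheory CategoryTheory.Limits CategoryTheory.Abelian Opposite

namespace Groth.Agent.CohColim

section Abstract

variable {A : Type (u + 1)} [Category.{u} A] [Abelian A] [HasExt.{u} A] [EnoughInjectives A] [HasProducts.{u} A]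
  {I : Type u} [SmallCategory I] [IsFiltered I] [HasColimitsOfShape I A] [HasExactColimitsOfShape I A]
  {P Q : A} (f : P ⟶ Q) [Mono f]

omit [EnoughInjectives A] [HasProducts.{u} A] [HasExactColimitsOfShape I A] in
/-- Maps into a filtered colimit come from a stage if `Ext⁰` commutes with the colimit. -/
theorem exists_stage_of_ext₀ (Z : A) (hZ : PreservesColimitsOfShape I (extFunctorObj.{u} Z 0)) (D : I ⥤ A)
    (φ : Z ⟶ colimit D) : ∃ (i : I) (ψ : Z ⟶ D.obj i), ψ ≫ colimit.ι D i = φ := by
  obtain ⟨i, (y : Ext.{u} Z (D.obj i) 0), (hy : y.comp (Ext.mk₀ (colimit.ι D i)) (add_zero 0) = Ext.mk₀ φ)⟩ :=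
    Concrete.isColimit_exists_rep (D ⋙ extFunctorObj.{u} Z 0)
      (isColimitOfPreserves (extFunctorObj.{u} Z 0) (colimit.isColimit D)) (Ext.mk₀ φ : Ext.{u} Z (colimit D) 0)
  obtain ⟨ψ, rfl⟩ := (Ext.mk₀_bijective _ _).2 y
  rw [Ext.mk₀_comp_mk₀] at hy
  exact ⟨i, ψ, (Ext.mk₀_bijective _ _).1 hy⟩

omit [EnoughInjectives A] [HasProducts.{u} A] [HasExactColimitsOfShape I A] in
/-- Maps killed in a filtered colimit die at a stage if `Ext⁰` commutes with the colimit. -/
theorem exists_zero_stage_of_ext₀ (Z : A) (hZ : PreservesColimitsOfShape I (extFunctorObj.{u} Z 0)) (D : I ⥤ A)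
    (i : I) (ψ : Z ⟶ D.obj i) (h : ψ ≫ colimit.ι D i = 0) : ∃ (k : I) (m : i ⟶ k), ψ ≫ D.map m = 0 := by
  let G := D ⋙ extFunctorObj.{u} Z 0
  let x : G.obj i := (Ext.mk₀ ψ : Ext.{u} Z (D.obj i) 0)
  let c := (extFunctorObj.{u} Z 0).mapCocone (colimit.cocone D)
  have h0 : c.ι.app i x = c.ι.app i 0 := by
    rw [map_zero]
    show (Ext.mk₀ ψ : Ext.{u} Z (D.obj i) 0).comp (Ext.mk₀ (colimit.ι D i)) (add_zero 0) = 0
    rw [Ext.mk₀_comp_mk₀, h, Ext.mk₀_zero]
  obtain ⟨k, a, b, hab⟩ := (Concrete.isColimit_rep_eq_iff_exists G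
    (isColimitOfPreserves (extFunctorObj.{u} Z 0) (colimit.isColimit D)) x 0).1 h0
  rw [map_zero] at hab
  have hab' : (Ext.mk₀ ψ : Ext.{u} Z (D.obj i) 0).comp (Ext.mk₀ (D.map a)) (add_zero 0) = 0 := hab
  rw [Ext.mk₀_comp_mk₀] at hab'
  exact ⟨k, a, (Ext.mk₀_bijective _ _).1 (hab'.trans (Ext.mk₀_zero _ _).symm)⟩

/-- If the Ext functors out of source and target of a monomorphism commute with filtered colimits, so do those out
of its cokernel. -/
theorem preservesColimitsOfShape_ext_cokernel
    (hP : ∀ n, PreservesColimitsOfShape I (extFunctorObj.{u} P n))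
    (hQ : ∀ n, PreservesColimitsOfShape I (extFunctorObj.{u} Q n)) (n : ℕ) :
    PreservesColimitsOfShape I (extFunctorObj.{u} (cokernel f) n) := by
  have hsurj := exists_stage_of_ext₀ (A := A) (I := I)
  have hinj := exists_zero_stage_of_ext₀ (A := A) (I := I)
  refine preservesColimitsOfShape_ext _ ?_ ?_ n
  · refine ⟨fun {D} => preservesColimit_addCommGrp (colimit.isColimit D) _ (fun (φ : cokernel f ⟶ colimit D) => ?_)
      (fun i (ψ : cokernel f ⟶ D.obj i) (hψ : ψ ≫ colimit.ι D i = 0) => ?_)⟩
    · obtain ⟨i, ψ, hψ⟩ := hsurj Q (hQ 0) D (cokernel.π f ≫ φ)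
      obtain ⟨k, m, hm⟩ := hinj P (hP 0) D i (f ≫ ψ) (by rw [Category.assoc, hψ, cokernel.condition_assoc, zero_comp])
      refine ⟨k, cokernel.desc f (ψ ≫ D.map m) ((Category.assoc _ _ _).symm.trans hm), ?_⟩
      show cokernel.desc f (ψ ≫ D.map m) _ ≫ colimit.ι D k = φ
      rw [← cancel_epi (cokernel.π f), cokernel.π_desc_assoc, Category.assoc, colimit.w, hψ]
    · obtain ⟨k, m, hm⟩ := hinj Q (hQ 0) D i (cokernel.π f ≫ ψ) (by rw [Category.assoc, hψ, comp_zero])
      refine ⟨k, m, ?_⟩
      show ψ ≫ D.map m = 0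
      rw [← cancel_epi (cokernel.π f), comp_zero, ← Category.assoc]
      exact hm
  · intro D hD m
    let S := ShortComplex.mk f (cokernel.π f) (cokernel.condition f)
    have hS : S.ShortExact :=
      { exact := ShortComplex.exact_of_g_is_cokernel _ (cokernelIsCokernel f)
        mono_f := inferInstanceAs (Mono f) }
    have hz : ∀ (Z : A) (n : ℕ), PreservesColimitsOfShape I (extFunctorObj.{u} Z (n + 1)) →
        Subsingleton (Ext.{u} Z (colimit D) (n + 1)) := fun Z n hZ =>
      AddCommGrpCat.subsingleton_of_isZero (G := (extFunctorObj.{u} Z (n + 1)).obj (colimit D)) (isZero_of_isColimit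
        (isColimitOfPreserves (extFunctorObj.{u} Z (n + 1)) (colimit.isColimit D)) fun i =>
          haveI := hD i
          @AddCommGrpCat.isZero_of_subsingleton _ (subsingleton_of_forall_eq 0 fun x => Ext.eq_zero_of_injective x))
    refine subsingleton_of_forall_eq 0 fun x => ?_
    haveI : Subsingleton (Ext.{u} S.X₂ (colimit D) (m + 1)) := hz Q m (hQ (m + 1))
    obtain ⟨y, rfl⟩ := Ext.contravariant_sequence_exact₃ hS (colimit D) x (Subsingleton.elim _ _) (n₀ := m) (by omega)
    cases m with
    | zero =>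
      obtain ⟨φ, rfl⟩ := (Ext.mk₀_bijective _ _).2 y
      obtain ⟨i, ψ, hψ⟩ := hsurj P (hP 0) D φ
      haveI := hD i
      have e : S.f ≫ Injective.factorThru ψ f ≫ colimit.ι D i = φ := by
        rw [← hψ, ← Category.assoc]
        exact congrArg (fun z => z ≫ colimit.ι D i) (Injective.comp_factorThru ψ f)
      rw [← e, ← Ext.mk₀_comp_mk₀]
      exact hS.extClass_comp_assoc _
    | succ m =>
      haveI : Subsingleton (Ext.{u} S.X₁ (colimit D) (m + 1)) := hz P m (hP (m + 1))
      rw [Subsingleton.elim y 0, Ext.comp_zero]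

end Abstract

open ToposFin

variable {C : Type u} [SmallCategory C] {J : GrothendieckTopology C}

/-- Cohomology with supports in the complement of a coherent open commutes with filtered colimits. -/
theorem preservesColimitsOfShape_HZ (hE : IsAlgebraic J) (hT : IsCoherent (⊤_ (Sh J))) (U : Sh J)
    [Mono (terminal.from U)] (hU : IsCoherent U) (I : Type u) [SmallCategory I] [IsFiltered I] (q : ℕ) :
    PreservesColimitsOfShape I (ToposFin.HZFunctor U q) := by
  have h : ∀ (X : Sh J), IsCoherent X → ∀ n, PreservesColimitsOfShape I (extFunctorObj.{u} ((ToposFin.freeAb J).obj X) n) :=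
    fun X hX n => haveI := preservesColimitsOfShape_HK_of_coherent hE hX I n
      preservesColimitsOfShape_of_natIso (F := ToposFin.HKFunctor X n) (NatIso.ofComponents (fun _ => Iso.refl _) (fun _ => rfl))
  haveI : Mono ((ToposFin.freeAb J).map (terminal.from U)) := SSExist.mono_freeAb_map _
  haveI := preservesColimitsOfShape_ext_cokernel (I := I) ((ToposFin.freeAb J).map (terminal.from U))
    (h U hU) (h _ hT) q
  exact preservesColimitsOfShape_of_natIso
    (F := extFunctorObj.{u} (cokernel ((ToposFin.freeAb J).map (terminal.from U))) q)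
    (NatIso.ofComponents (fun _ => Iso.refl _) (fun _ => rfl))

end Groth.Agent.CohColim
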