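import Groth.Agent.CohColim.Site
import Groth.Agent.CohColim.Powers
import Groth.Agent.CohColim.Devissage
import Groth.Agent.SSExist.TotAc

/-!
# Filtered colimits and cohomology of coherent objects of a topos
-/

set_option autoImplicit false
set_option linter.style.haveILetI false
set_option backward.isDefEq.respectTransparency false
set_option backward.isDefEq.respectTransparency.types false
set_option backward.defeqAttrib.useBackward true

universe u

open CategoryTheory CategoryTheory.Limits CategoryTheory.Abelian Opposite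

namespace Groth.Agent.CohColim

open ToposFin Groth.Agent.ToposFinLib

variable {C : Type u} [SmallCategory C] {J : GrothendieckTopology C} {I : Type u} [SmallCategory I] [IsFiltered I]

/-- The underlying sheaf of sets. -/
noncomputable abbrev setsOf : Sheaf J AddCommGrpCat.{u} ⥤ Sh J := sheafCompose J (forget AddCommGrpCat.{u})

/-- The underlying sheaf of sets commutes with filtered colimits. -/
theorem preservesColimitsOfShape_setsOf :
    PreservesColimitsOfShape I (setsOf : Sheaf J AddCommGrpCat.{u} ⥤ Sh J) := by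
  refine ⟨fun {D} => preservesColimit_of_preserves_colimit_cocone (colimit.isColimit D) ?_⟩
  let c := colimit.cocone D
  let P := D ⋙ sheafToPresheaf J AddCommGrpCat.{u}
  let G := (Functor.whiskeringRight Cᵒᵖ AddCommGrpCat.{u} (Type u)).obj (forget AddCommGrpCat.{u})
  haveI : PreservesColimitsOfShape I G := inferInstance
  have hE := isColimitOfPreserves G (colimit.isColimit P)
  let φ : G.obj (colimit P) ⟶ (setsOf.obj c.pt).obj := G.map (fromPre c)
  have hW : J.W φ := by
    rw [J.W_iff_isLocallyBijective]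
    have h := (J.W_iff_isLocallyBijective _).1 (W_fromPre (colimit.isColimit D))
    haveI := h.1
    haveI := h.2
    constructor
    · exact inferInstanceAs (Presheaf.IsLocallyInjective J (Functor.whiskerRight (fromPre c) (forget AddCommGrpCat.{u})))
    · exact inferInstanceAs (Presheaf.IsLocallySurjective J (Functor.whiskerRight (fromPre c) (forget AddCommGrpCat.{u})))
  let t : ∀ s : Cocone (D ⋙ setsOf), G.obj (colimit P) ⟶ s.pt.obj := fun s => hE.desc
    ⟨s.pt.obj, { app := fun i => (s.ι.app i).hom
                 naturality := fun i j f => by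
                   refine Eq.trans ?_ (Category.comp_id _).symm
                   exact congrArg (fun m : (D ⋙ setsOf).obj i ⟶ s.pt => m.hom) (s.w f) }⟩
  have ht : ∀ s i, G.map (colimit.ι P i) ≫ t s = (s.ι.app i).hom := fun s i => hE.fac _ i
  have hι : ∀ i, G.map (colimit.ι P i) ≫ φ = (setsOf.map (c.ι.app i)).hom := fun i =>
    (G.map_comp _ _).symm.trans (congrArg G.map (ι_fromPre c i))
  refine IsColimit.ofExistsUnique fun s => ?_
  obtain ⟨g, hg⟩ := (hW s.pt.obj s.pt.property).2 (t s)
  refine ⟨⟨g⟩, fun i => Sheaf.hom_ext ?_, fun m hm => Sheaf.hom_ext ?_⟩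
  · show (setsOf.map (c.ι.app i)).hom ≫ g = _
    rw [← hι i, Category.assoc]
    exact (congrArg (CategoryStruct.comp _) hg).trans (ht s i)
  · refine (hW s.pt.obj s.pt.property).1 (Eq.trans ?_ hg.symm)
    refine hE.hom_ext fun i => ?_
    refine Eq.trans ?_ (ht s i).symm
    refine (Category.assoc _ _ _).symm.trans ((congrArg (fun x => x ≫ m.hom) (hι i)).trans ?_)
    exact congrArg (fun x : (D ⋙ setsOf).obj i ⟶ s.pt => x.hom) (hm i)

variable (T : Sh J → Prop) (hqc : ∀ X, T X → IsQC X)
  (hpb : ∀ {X Y Z : Sh J} (f : X ⟶ Z) (g : Y ⟶ Z), T X → T Y → T Z → T (pullback f g))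
  (href : ∀ {X E : Sh J} (e : E ⟶ X), T X → Epi e → ∃ (X' : Sh J) (k : X' ⟶ E), T X' ∧ Epi (k ≫ e))

include hqc hpb href in
/-- Maps from a coherent object to a filtered colimit come from a stage. -/
theorem exists_stage {X : Sh J} (hX : T X) (F : I ⥤ Sh J) (f : X ⟶ colimit F) :
    ∃ (i : I) (x : X ⟶ F.obj i), x ≫ colimit.ι F i = f := by
  classical
  let P : I → Sh J := fun i => pullback (colimit.ι F i) f
  let e : (∐ P) ⟶ X := Sigma.desc fun i => pullback.snd _ _
  haveI he : Epi e := (epi_desc_iff _).2 (isEpiFamily_pullback_snd (SheafTopos.Canonical.isEpiFamily_colimit (colimit.isColimit F)) f)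
  obtain ⟨X', k, hX', hk⟩ := href e hX he
  obtain ⟨hc'⟩ := isColimit_cofan_pullback (coproductIsCoproduct P) k
  let Q : I → Sh J := fun i => pullback (Sigma.ι P i) k
  let ρ : ∀ i, Q i ⟶ X' := fun i => pullback.snd _ _
  obtain ⟨t, ht⟩ := exists_finite_subcover (hqc X' hX') ρ (isEpiFamily_of_isColimit hc')
  obtain ⟨j, hj⟩ := IsFiltered.sup_objs_exists t
  let a : ∀ p : t, Q p.1 ⟶ F.obj j := fun p =>
    pullback.fst (Sigma.ι P p.1) k ≫ pullback.fst _ _ ≫ F.map (hj p.2).some
  obtain ⟨A, hA⟩ := exists_desc_hom (fun p : t => ρ p.1) ht a fun p q => by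
    rcases eq_or_ne p q with rfl | hne
    · haveI : Mono (ρ p.1) := mono_inj hc' p.1
      have h := pullback.condition (f := ρ p.1) (g := ρ p.1)
      rw [cancel_mono] at h
      rw [h]
    · exact (isInitial_pullback_inj hc' (Subtype.val_injective.ne hne)).some.hom_ext _ _
  have hAf : A ≫ colimit.ι F j = (k ≫ e) ≫ f := ht _ _ _ fun p => by
    rw [reassoc_of% (hA p)]
    simp only [a, Category.assoc, colimit.w]
    show _ = pullback.snd (Sigma.ι P p.1) k ≫ k ≫ e ≫ f
    rw [pullback.condition, ← pullback.condition_assoc]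
    simp [e]
  obtain ⟨i, m, hm⟩ := exists_stage_eq_of_isQC (hqc _ (hpb (k ≫ e) (k ≫ e) hX' hX' hX)) F j
    (pullback.fst _ _ ≫ A) (pullback.snd _ _ ≫ A) (by
      simp only [Category.assoc, hAf]
      rw [← Category.assoc k e, pullback.condition_assoc])
  obtain ⟨B, hB⟩ := exists_desc_hom (fun _ : PUnit.{u + 1} => k ≫ e) (isEpiFamily_singleton (k ≫ e))
    (fun _ => A ≫ F.map m) fun _ _ => by
      rw [← Category.assoc (pullback.fst _ _), ← Category.assoc (pullback.snd _ _)]
      exact hm
  refine ⟨i, B, (cancel_epi (k ≫ e)).1 ?_⟩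
  rw [← Category.assoc (k ≫ e) B, hB ⟨⟩, Category.assoc, colimit.w, hAf]

section Ab

variable {D : I ⥤ Sheaf J AddCommGrpCat.{u}}

include hqc hpb href in
/-- Maps out of a free sheaf on a coherent object into a filtered colimit come from a stage. -/
theorem exists_stage_free {X : Sh J} (hX : T X) (φ : (ToposFin.freeAb J).obj X ⟶ colimit D) :
    ∃ (i : I) (ψ : (ToposFin.freeAb J).obj X ⟶ D.obj i), ψ ≫ colimit.ι D i = φ := by
  haveI := preservesColimitsOfShape_setsOf (J := J) (I := I)
  let adj := SSExist.freeAbAdj J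
  let e := preservesColimitIso setsOf D
  obtain ⟨i, x, hx⟩ := exists_stage T hqc hpb href hX (D ⋙ setsOf) (adj.homEquiv X _ φ ≫ e.hom)
  refine ⟨i, (adj.homEquiv X _).symm x, ?_⟩
  apply (adj.homEquiv X _).injective
  rw [adj.homEquiv_naturality_right, Equiv.apply_symm_apply, ← cancel_mono e.hom, Category.assoc,
    ι_preservesColimitIso_hom, hx]

include hqc in
/-- Maps out of a free sheaf on a quasi-compact object killed in a filtered colimit die at a stage. -/
theorem exists_zero_stage_free {X : Sh J} (hX : T X) (i : I) (ψ : (ToposFin.freeAb J).obj X ⟶ D.obj i)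
    (h : ψ ≫ colimit.ι D i = 0) : ∃ (k : I) (m : i ⟶ k), ψ ≫ D.map m = 0 := by
  haveI := preservesColimitsOfShape_setsOf (J := J) (I := I)
  let adj := SSExist.freeAbAdj J
  let e := preservesColimitIso setsOf D
  obtain ⟨k, m, hm⟩ := exists_stage_eq_of_isQC (hqc X hX) (D ⋙ setsOf) i (adj.homEquiv X _ ψ)
    (adj.homEquiv X _ 0) (by
      rw [← ι_preservesColimitIso_hom setsOf D i, ← Category.assoc, ← Category.assoc,
        ← adj.homEquiv_naturality_right, ← adj.homEquiv_naturality_right, h, zero_comp])
  refine ⟨k, m, ?_⟩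
  apply (adj.homEquiv X _).injective
  refine (adj.homEquiv_naturality_right _ _).trans (hm.trans ?_)
  exact (adj.homEquiv_naturality_right _ _).symm.trans (congrArg _ zero_comp)

end Ab

/-- A class in positive degree dies on an epimorphism. -/
theorem exists_epi_kills : ∀ (n : ℕ) (X : Sh J) (F : Sheaf J AddCommGrpCat.{u})
    (x : Ext.{u} ((ToposFin.freeAb J).obj X) F (n + 1)),
    ∃ (E : Sh J) (e : E ⟶ X), Epi e ∧ (Ext.mk₀ ((ToposFin.freeAb J).map e)).comp x (zero_add _) = 0 := by
  intro n
  induction n with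
  | zero =>
    intro X F x
    obtain ⟨S, hS, rfl, hI⟩ := SSExist.exists_injSES F
    haveI := hI
    obtain ⟨y, rfl⟩ := Ext.covariant_sequence_exact₁ _ hS x (Ext.eq_zero_of_injective _) (n₀ := 0) rfl
    obtain ⟨φ, rfl⟩ := (Ext.mk₀_bijective _ _).2 y
    let adj := SSExist.freeAbAdj J
    haveI : Sheaf.IsLocallySurjective (setsOf.map S.g) := by
      haveI := hS.epi_g
      haveI : Sheaf.IsLocallySurjective S.g := (Sheaf.isLocallySurjective_iff_epi' AddCommGrpCat.{u} (J := J) S.g).2 hS.epi_g
      exact inferInstanceAs (Presheaf.IsLocallySurjective J (Functor.whiskerRight S.g.hom (forget AddCommGrpCat.{u})))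
    haveI : Epi (setsOf.map S.g) := Sheaf.epi_of_isLocallySurjective _
    have hepi : Epi (pullback.fst (adj.homEquiv _ _ φ) (setsOf.map S.g)) :=
      ⟨fun a b h => isEpiFamily_pullback_fst (isEpiFamily_singleton (setsOf.map S.g)) _ _ a b fun _ => h⟩
    refine ⟨_, pullback.fst (adj.homEquiv _ _ φ) (setsOf.map S.g), hepi, ?_⟩
    let ψ := (adj.homEquiv _ _).symm (pullback.snd (adj.homEquiv _ _ φ) (setsOf.map S.g))
    have hψ : (ToposFin.freeAb J).map (pullback.fst (adj.homEquiv _ _ φ) (setsOf.map S.g)) ≫ φ = ψ ≫ S.g := by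
      apply (adj.homEquiv _ _).injective
      rw [adj.homEquiv_naturality_left, adj.homEquiv_naturality_right, Equiv.apply_symm_apply]
      exact pullback.condition
    rw [← Ext.comp_assoc_of_second_deg_zero, Ext.mk₀_comp_mk₀, hψ, ← Ext.mk₀_comp_mk₀,
      Ext.comp_assoc_of_second_deg_zero, ShortComplex.ShortExact.comp_extClass, Ext.comp_zero]
  | succ n ih =>
    intro X F x
    obtain ⟨S, hS, rfl, hI⟩ := SSExist.exists_injSES F
    haveI := hI
    obtain ⟨y, rfl⟩ := Ext.covariant_sequence_exact₁ _ hS x (Ext.eq_zero_of_injective _) (n₀ := n + 1) rfl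
    obtain ⟨E, e, he, h⟩ := ih X S.X₃ y
    exact ⟨E, e, he, by rw [← Ext.comp_assoc (a₁₂ := n + 1) _ _ _ (by omega) (by omega) (by omega), h, Ext.zero_comp]⟩

include hqc hpb href in
/-- Filtered colimits of injectives are acyclic on coherent objects. -/
theorem subsingleton_ext_colimit {D : I ⥤ Sheaf J AddCommGrpCat.{u}} (hI : ∀ i, Injective (D.obj i)) :
    ∀ (n : ℕ) (K : Sh J), T K → Subsingleton (Ext.{u} ((ToposFin.freeAb J).obj K) (colimit D) (n + 1)) := by
  intro n
  induction n using Nat.strongRecOn with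
  | ind n ih =>
    intro K hK
    refine subsingleton_of_forall_eq 0 fun x => ?_
    obtain ⟨E, e, he, hxe⟩ := exists_epi_kills n K (colimit D) x
    obtain ⟨X, k, hX, hk⟩ := href e hK he
    let π := k ≫ e
    haveI : Presheaf.IsLocallySurjective J π.hom :=
      (Sheaf.isLocallySurjective_iff_epi π).2 hk
    have hpw : ∀ q, T (pw π q) := by
      intro q
      induction q with
      | zero => exact hX
      | succ q ihq => exact hpb _ _ ihq hX hK
    have hx' : (Ext.mk₀ ((ToposFin.freeAb J).map π)).comp x (zero_add _) = 0 := by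
      rw [(ToposFin.freeAb J).map_comp, ← Ext.mk₀_comp_mk₀, Ext.comp_assoc_of_second_deg_zero, hxe, Ext.comp_zero]
    have hε : tupEps J π.hom = (freePwIso π 0).inv ≫ (ToposFin.freeAb J).map π := by
      refine (presheafToSheaf J AddCommGrpCat.{u}).congr_map ?_ |>.trans ((presheafToSheaf J AddCommGrpCat.{u}).map_comp _ _)
      refine NatTrans.ext (funext fun V => AddCommGrpCat.hom_ext (FreeAbelianGroup.lift_ext _ _ fun z => ?_))
      show tupAug π.hom (FreeAbelianGroup.of z) = FreeAbelianGroup.map (π.hom.app V)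
        (FreeAbelianGroup.map ((pwIso π 0).inv.app V) (FreeAbelianGroup.of z))
      simp only [tupAug, FreeAbelianGroup.map_of_apply]
      refine congrArg FreeAbelianGroup.of ?_
      obtain ⟨w, rfl⟩ := ((pwIso π 0).app V).toEquiv.surjective z
      exact congrArg (π.hom.app V) (((pwIso π 0).app V).toEquiv.symm_apply_apply w).symm
    have hxε : (Ext.mk₀ (tupEps J π.hom)).comp x (zero_add _) = 0 := by
      rw [hε, ← Ext.mk₀_comp_mk₀, Ext.comp_assoc_of_second_deg_zero, hx', Ext.comp_zero]
    haveI : Epi (tupEps J π.hom) := epi_tupEps π.hom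
    refine ext_eq_zero_of_resolution (c := colimit.cocone D) (tupCx J π.hom) (tupD J π.hom) (tupD_tupD J π.hom)
      (tupEps J π.hom) (tupD_tupEps J π.hom) (exact_tupEps π.hom) (exact_tupD π.hom) ?_ n ?_ x hxε
    · refine exists_extend_colimit _ _ (tupD_tupD J π.hom) _ (tupD_tupEps J π.hom) (exact_tupEps π.hom)
        (exact_tupD π.hom) hI (fun q f => ?_) (fun q i g hg => ?_)
      · obtain ⟨i, g, hg⟩ := exists_stage_free T hqc hpb href (hpw q) ((freePwIso π q).hom ≫ f)
        exact ⟨i, (freePwIso π q).inv ≫ g, by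
          rw [Category.assoc]
          exact (congrArg (CategoryStruct.comp _) hg).trans (Iso.inv_hom_id_assoc _ _)⟩
      · obtain ⟨l, m, hm⟩ := exists_zero_stage_free T hqc (hpw q) i ((freePwIso π q).hom ≫ g)
          ((Category.assoc _ _ _).trans ((congrArg (CategoryStruct.comp _) hg).trans comp_zero))
        exact ⟨l, m, (cancel_epi (freePwIso π q).hom).1 ((Category.assoc _ _ _).symm.trans (hm.trans comp_zero.symm))⟩
    · intro q m hm
      haveI : Subsingleton (Ext.{u} ((ToposFin.freeAb J).obj (pw π q)) (colimit.cocone D).pt (m + 1)) :=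
        ih m hm (pw π q) (hpw q)
      refine subsingleton_of_forall_eq 0 fun y => ?_
      have h0 : (Ext.mk₀ (freePwIso π q).hom).comp y (zero_add _) = 0 := Subsingleton.elim _ _
      have := congrArg (fun z => (Ext.mk₀ (freePwIso π q).inv).comp z (zero_add _)) h0
      simpa using this

include hqc hpb href in
/-- Cohomology of a coherent object commutes with filtered colimits. -/
theorem preservesColimitsOfShape_extFreeAb {K : Sh J} (hK : T K) (q : ℕ) :
    PreservesColimitsOfShape I (extFunctorObj.{u} ((ToposFin.freeAb J).obj K) q) :=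
  preservesColimitsOfShape_ext _
    ⟨fun {D} => preservesColimit_addCommGrp (colimit.isColimit D) _
      (fun φ => exists_stage_free T hqc hpb href hK φ) (fun i ψ h => exists_zero_stage_free T hqc hK i ψ h)⟩
    (fun _ hD m => subsingleton_ext_colimit T hqc hpb href hD m K hK) q

include hqc hpb href in
/-- Cohomology of a coherent object commutes with filtered colimits, as the prelude's functor. -/
theorem preservesColimitsOfShape_HK {K : Sh J} (hK : T K) (q : ℕ) :
    PreservesColimitsOfShape I (ToposFin.HKFunctor K q) :=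
  haveI := preservesColimitsOfShape_extFreeAb (I := I) T hqc hpb href hK q
  preservesColimitsOfShape_of_natIso (NatIso.ofComponents (fun _ => Iso.refl _) (fun _ => rfl) :
    extFunctorObj.{u} ((ToposFin.freeAb J).obj K) q ≅ _)

end Groth.Agent.CohColim
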