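import Groth.Agent.HypAcyc.Sheaf

/-!
# The free chain complex of the tuples of a locally surjective map
-/

set_option autoImplicit false
set_option linter.style.haveILetI false
set_option backward.isDefEq.respectTransparency false
set_option backward.isDefEq.respectTransparency.types false

universe u

open CategoryTheory CategoryTheory.Limits Opposite Simplicial AlgebraicTopology

namespace Groth.Agent.CohColim

open Groth.Agent.HypAcyc

variable {C : Type u} [SmallCategory C] {X K : Cᵒᵖ ⥤ Type u} (π : X ⟶ K)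

/-- Tuples of sections with a common image. -/
abbrev Tup (n : ℕ) (V : Cᵒᵖ) : Type u :=
  {p : Fin (n + 1) → X.obj V // ∀ a b, π.app V (p a) = π.app V (p b)}

/-- The presheaf of tuples. -/
def tupP (n : ℕ) : Cᵒᵖ ⥤ Type u where
  obj V := Tup π n V
  map {V W} g := TypeCat.ofHom fun p => ⟨fun a => X.map g (p.1 a), fun a b => by
    rw [NatTrans.naturality_apply π g, NatTrans.naturality_apply π g, p.2 a b]⟩
  map_id V := by
    ext p a
    exact ConcreteCategory.congr_hom (X.map_id V) _
  map_comp f g := by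
    ext p a
    exact ConcreteCategory.congr_hom (X.map_comp f g) _

/-- The simplicial presheaf of tuples. -/
def tupS : SimplicialObject (Cᵒᵖ ⥤ Type u) where
  obj Δ := tupP π Δ.unop.len
  map θ :=
    { app := fun _ => TypeCat.ofHom fun p => ⟨fun a => p.1 (θ.unop.toOrderHom a), fun _ _ => p.2 _ _⟩
      naturality := fun _ _ _ => rfl }
  map_id _ := rfl
  map_comp _ _ := rfl

/-- The common image. -/
def tupBase {n : ℕ} {W : C} (x : Sect (tupS π) n W) : K.obj (op W) := π.app (op W) (x.1 0)

lemma tupBase_face {n : ℕ} {W : C} (i : Fin (n + 2)) (x : Sect (tupS π) (n + 1) W) :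
    tupBase π (face i x) = tupBase π x :=
  x.2 _ _

lemma tupBase_rs {n : ℕ} {W V : C} (g : V ⟶ W) (x : Sect (tupS π) n W) :
    tupBase π (rs g x) = K.map g.op (tupBase π x) :=
  NatTrans.naturality_apply π g.op _

variable {V : C}

open scoped Classical in
/-- A choice of lift. -/
noncomputable def tupLift (k : K.obj (op V)) : Option (X.obj (op V)) :=
  if h : ∃ t, π.app (op V) t = k then some h.choose else none

lemma exists_tupLift {k : K.obj (op V)} (h : ∃ t, π.app (op V) t = k) :
    ∃ t, tupLift π k = some t ∧ π.app (op V) t = k := by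
  classical
  exact ⟨h.choose, dif_pos h, h.choose_spec⟩

open scoped Classical in
/-- The cone on the chosen lifts. -/
noncomputable def tupCone (n : ℕ) : Ch (tupS π) n V →+ Ch (tupS π) (n + 1) V :=
  FreeAbelianGroup.lift fun x =>
    if h : ∃ t, π.app (op V) t = tupBase π x then
      FreeAbelianGroup.of (⟨Fin.cons h.choose x.1, fun a b => by
        have key : ∀ a, π.app (op V) ((Fin.cons h.choose x.1 : Fin (n + 1 + 1) → X.obj (op V)) a) = tupBase π x :=
          fun a => Fin.cases h.choose_spec (fun j => by rw [Fin.cons_succ]; exact x.2 j 0) a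
        exact (key a).trans (key b).symm⟩ : Tup π (n + 1) (op V))
    else 0

open scoped Classical in
/-- The cone in degree `-1`. -/
noncomputable def baseCone : FreeAbelianGroup (K.obj (op V)) →+ Ch (tupS π) 0 V :=
  FreeAbelianGroup.lift fun k =>
    if h : ∃ t, π.app (op V) t = k then
      FreeAbelianGroup.of (⟨fun _ => h.choose, fun _ _ => rfl⟩ : Tup π 0 (op V))
    else 0

/-- The augmentation. -/
noncomputable def tupAug : Ch (tupS π) 0 V →+ FreeAbelianGroup (K.obj (op V)) :=
  FreeAbelianGroup.map (tupBase π)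

lemma cone_decomp_zero (x : Sect (tupS π) 0 V) (h : ∃ t, π.app (op V) t = tupBase π x) :
    bd 0 V (tupCone π 0 (FreeAbelianGroup.of x)) + baseCone π (tupAug π (FreeAbelianGroup.of x)) =
      FreeAbelianGroup.of x := by
  classical
  rw [tupAug, FreeAbelianGroup.map_of_apply, baseCone, tupCone, FreeAbelianGroup.lift_apply_of,
    FreeAbelianGroup.lift_apply_of, dif_pos h, dif_pos h, bd_of]
  rw [Fin.sum_univ_two]
  simp only [Fin.val_zero, pow_zero, one_smul, Fin.val_one, pow_one, neg_smul]
  rw [add_assoc]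
  refine (congrArg₂ (fun a b : Ch (tupS π) 0 V => a + b) (congrArg FreeAbelianGroup.of (Subtype.ext (funext fun a => ?_))) ?_).trans (add_zero _)
  · rw [Fin.fin_one_eq_zero a]
    rfl
  · rw [neg_add_eq_zero]
    refine congrArg FreeAbelianGroup.of (Subtype.ext (funext fun a => ?_))
    rw [Fin.fin_one_eq_zero a]
    rfl

lemma cone_decomp_succ {n : ℕ} (x : Sect (tupS π) (n + 1) V) (h : ∃ t, π.app (op V) t = tupBase π x) :
    bd (n + 1) V (tupCone π (n + 1) (FreeAbelianGroup.of x)) + tupCone π n (bd n V (FreeAbelianGroup.of x)) =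
      FreeAbelianGroup.of x := by
  classical
  have hf : ∀ i : Fin (n + 2), tupCone π n (FreeAbelianGroup.of (face i x)) =
      FreeAbelianGroup.of (face i.succ (⟨Fin.cons h.choose x.1, fun a b => by
        have key : ∀ a, π.app (op V) ((Fin.cons h.choose x.1 : Fin (n + 2 + 1) → X.obj (op V)) a) = tupBase π x :=
          fun a => Fin.cases h.choose_spec (fun j => by rw [Fin.cons_succ]; exact x.2 j 0) a
        exact (key a).trans (key b).symm⟩ : Tup π (n + 1 + 1) (op V)) : Sect (tupS π) (n + 1) V) := fun i => by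
    have h' : ∃ t, π.app (op V) t = tupBase π (face i x) := by rw [tupBase_face]; exact h
    rw [tupCone, FreeAbelianGroup.lift_apply_of, dif_pos h']
    refine congrArg FreeAbelianGroup.of (Subtype.ext (funext fun a => ?_))
    refine Fin.cases ?_ (fun j => ?_) a
    · have e : h'.choose = h.choose := by
        congr 1
        ext t
        rw [tupBase_face]
      exact e
    · show x.1 (i.succAbove j) = (Fin.cons h.choose x.1 : Fin (n + 2 + 1) → X.obj (op V)) (i.succ.succAbove j.succ)
      rw [Fin.succ_succAbove_succ, Fin.cons_succ]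
  rw [bd_of, map_sum]
  simp only [map_zsmul, hf]
  rw [tupCone, FreeAbelianGroup.lift_apply_of, dif_pos h, bd_of, Fin.sum_univ_succ (n := n + 2)]
  simp only [Fin.val_zero, pow_zero, one_smul, Fin.val_succ, pow_succ, mul_neg, mul_one, neg_smul,
    Finset.sum_neg_distrib]
  rw [add_assoc]
  refine (congrArg₂ (fun a b : Ch (tupS π) (n + 1) V => a + b) (congrArg FreeAbelianGroup.of (Subtype.ext (funext fun a => ?_))) ?_).trans (add_zero _)
  · rfl
  · exact neg_add_cancel _

variable {J : GrothendieckTopology C} [Presheaf.IsLocallySurjective J π]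

lemma exists_lift_sieve {n : ℕ} {W : C} (x : Sect (tupS π) n W) :
    ∃ S ∈ J W, ∀ ⦃V : C⦄ (g : V ⟶ W), S.arrows g → ∃ t, π.app (op V) t = tupBase π (rs g x) :=
  ⟨_, Presheaf.imageSieve_mem J π (tupBase π x), fun _ g ⟨t, ht⟩ => ⟨t, ht.trans (tupBase_rs π g x).symm⟩⟩

lemma rsC_of {n : ℕ} {W V : C} (g : V ⟶ W) (x : Sect (tupS π) n W) :
    rsC g (FreeAbelianGroup.of x) = FreeAbelianGroup.of (rs g x) := FreeAbelianGroup.map_of_apply x

lemma bd_rsC {n : ℕ} {W V : C} (g : V ⟶ W) (c : Ch (tupS π) (n + 1) W) :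
    bd n V (rsC g c) = rsC g (bd n W c) := by
  induction c using FreeAbelianGroup.induction_on with
  | zero => simp
  | of x =>
    rw [rsC_of, bd_of, bd_of, map_sum]
    refine Finset.sum_congr rfl fun i _ => ?_
    rw [map_zsmul, rsC_of, face_rs]
  | neg x hx => simp only [map_neg, hx]
  | add x y hx hy => simp only [map_add, hx, hy]

/-- Chains locally decompose through the cone. -/
theorem locally_decomp_succ {n : ℕ} {W : C} (c : Ch (tupS π) (n + 1) W) :
    ∃ S ∈ J W, ∀ ⦃V : C⦄ (g : V ⟶ W), S.arrows g →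
      bd (n + 1) V (tupCone π (n + 1) (rsC g c)) + tupCone π n (bd n V (rsC g c)) = rsC g c := by
  induction c using FreeAbelianGroup.induction_on with
  | zero => exact ⟨⊤, J.top_mem W, fun V g _ => by simp⟩
  | of x =>
    obtain ⟨S, hS, hS'⟩ := exists_lift_sieve (J := J) π x
    exact ⟨S, hS, fun V g hg => by rw [rsC_of]; exact cone_decomp_succ π _ (hS' g hg)⟩
  | neg x hx =>
    obtain ⟨S, hS, h⟩ := hx
    refine ⟨S, hS, fun V g hg => ?_⟩
    simp only [map_neg]
    rw [← neg_add, h g hg]
  | add x y hx hy =>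
    obtain ⟨S, hS, h⟩ := hx
    obtain ⟨S', hS', h'⟩ := hy
    refine ⟨S ⊓ S', J.intersection_covering hS hS', fun V g hg => ?_⟩
    simp only [map_add]
    rw [add_add_add_comm, h g hg.1, h' g hg.2]

/-- Chains in degree zero locally decompose through the cone. -/
theorem locally_decomp_zero {W : C} (c : Ch (tupS π) 0 W) :
    ∃ S ∈ J W, ∀ ⦃V : C⦄ (g : V ⟶ W), S.arrows g →
      bd 0 V (tupCone π 0 (rsC g c)) + baseCone π (tupAug π (rsC g c)) = rsC g c := by
  induction c using FreeAbelianGroup.induction_on with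
  | zero => exact ⟨⊤, J.top_mem W, fun V g _ => by simp⟩
  | of x =>
    obtain ⟨S, hS, hS'⟩ := exists_lift_sieve (J := J) π x
    exact ⟨S, hS, fun V g hg => by rw [rsC_of]; exact cone_decomp_zero π _ (hS' g hg)⟩
  | neg x hx =>
    obtain ⟨S, hS, h⟩ := hx
    refine ⟨S, hS, fun V g hg => ?_⟩
    simp only [map_neg]
    rw [← neg_add, h g hg]
  | add x y hx hy =>
    obtain ⟨S, hS, h⟩ := hx
    obtain ⟨S', hS', h'⟩ := hy
    refine ⟨S ⊓ S', J.intersection_covering hS hS', fun V g hg => ?_⟩
    simp only [map_add]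
    rw [add_add_add_comm, h g hg.1, h' g hg.2]

end Groth.Agent.CohColim
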